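import Cfsg.Agent.Lib.FgsC.BaseTwo.Gluck

/-!
# The induction step for distinguishing sets
-/

set_option autoImplicit false

universe u

namespace CfsgLib.BaseTwo

open MulAction

/-- A soluble group has a minimal non-trivial abelian normal subgroup. -/
theorem exists_min_abelian {G : Type u} [Group G] [Finite G] [Nontrivial G] (hs : Group.IsSolvable G) :
    ∃ M : Subgroup G, M.Normal ∧ M ≠ ⊥ ∧ (∀ x ∈ M, ∀ y ∈ M, x * y = y * x) ∧
      ∀ U : Subgroup G, U.Normal → U ≤ M → U = ⊥ ∨ U = M := by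
  classical
  let P : Subgroup G → Prop := fun M => M.Normal ∧ M ≠ ⊥ ∧ ∀ x ∈ M, ∀ y ∈ M, x * y = y * x
  obtain ⟨M₀, hM₀⟩ : ∃ M, P M := by
    obtain ⟨n, hn⟩ := (Group.isSolvable_def G).1 hs
    have hex : ∃ k, derivedSeries G k = ⊥ := ⟨n, hn⟩
    obtain ⟨k, hk⟩ : ∃ k, Nat.find hex = k + 1 := Nat.exists_eq_succ_of_ne_zero fun h => by
      have h0 := Nat.find_spec hex
      rw [h, derivedSeries_zero] at h0
      exact (bot_ne_top : (⊥ : Subgroup G) ≠ ⊤) h0.symm
    refine ⟨derivedSeries G k, derivedSeries_normal G k, Nat.find_min hex (by omega), fun x hx y hy => ?_⟩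
    have h1 := Nat.find_spec hex
    rw [hk, derivedSeries_succ, Subgroup.commutator_eq_bot_iff_le_centralizer] at h1
    exact Subgroup.mem_centralizer_iff.1 (h1 hy) x hx
  obtain ⟨M, ⟨hMn, hMne, hMc⟩, hmin⟩ :=
    Set.Finite.exists_minimal (s := {M | P M}) (Set.toFinite _) ⟨M₀, hM₀⟩
  refine ⟨M, hMn, hMne, hMc, fun U hU hUM => or_iff_not_imp_left.2 fun hne => ?_⟩
  exact le_antisymm hUM (hmin (y := U) ⟨hU, hne, fun x hx y hy => hMc x (hUM hx) y (hUM hy)⟩ hUM)

/-- A maximal point stabiliser. -/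
theorem hasSet_maximal {G : Type u} [Group G] [Finite G] (hG : Odd (Nat.card G))
    {Ω : Type u} [Finite Ω] [MulAction G Ω] [FaithfulSMul G Ω] [IsPretransitive G Ω] (a : Ω)
    (hmax : IsCoatom (stabilizer G a)) (hlin : LinearUpTo.{u} (Nat.card Ω)) : HasSet G Ω := by
  classical
  rcases subsingleton_or_nontrivial G with hsub | hnt
  · exact ⟨∅, fun g _ x => by rw [Subsingleton.elim g 1, one_smul]⟩
  obtain ⟨M, hMn, hMne, hMc, hMmin⟩ := exists_min_abelian (CfsgLib.FT.isSolvable_of_odd hG)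
  set H := stabilizer G a with hH
  have hnot : ¬ M ≤ H := fun hle => hMne ((Subgroup.eq_bot_iff_forall M).2 fun m hm =>
    FaithfulSMul.eq_of_smul_eq_smul fun x : Ω => by
      obtain ⟨g, rfl⟩ := exists_smul_eq G a x
      have h1 := mem_stabilizer_iff.1 (hle (hMn.conj_mem m hm g⁻¹))
      rw [inv_inv, mul_smul, mul_smul, inv_smul_eq_iff] at h1
      rw [one_smul, h1])
  have htop : H ⊔ M = ⊤ := hmax.2 _ (lt_of_le_of_ne le_sup_left fun h => hnot (h ▸ le_sup_right))
  have htr : ∀ x : Ω, ∃ m ∈ M, m • a = x := fun x => by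
    obtain ⟨g, rfl⟩ := exists_smul_eq G a x
    have hg : g ∈ M ⊔ H := by rw [sup_comm, htop]; trivial
    obtain ⟨m, hm, h, hh, rfl⟩ := Subgroup.mem_sup_of_normal_left.1 hg
    exact ⟨m, hm, by rw [mul_smul, mem_stabilizer_iff.1 hh]⟩
  have hfree : ∀ m ∈ M, ∀ n ∈ M, m • a = n • a → m = n := fun m hm n hn he =>
    FaithfulSMul.eq_of_smul_eq_smul fun x : Ω => by
      obtain ⟨k, hk, rfl⟩ := htr x
      rw [smul_smul, smul_smul, hMc m hm k hk, hMc n hn k hk, mul_smul, mul_smul, he]
  letI : CommGroup M := { M.toGroup with mul_comm := fun x y => Subtype.ext (hMc x x.2 y y.2) }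
  letI : DistribMulAction H (Additive M) :=
    { smul := fun h m => Additive.ofMul ⟨(h : G) * (m.toMul : G) * (h : G)⁻¹, hMn.conj_mem _ m.toMul.2 h⟩
      one_smul := fun m => Additive.toMul.injective (Subtype.ext (by
        show (1 : G) * (m.toMul : G) * (1 : G)⁻¹ = _
        group))
      mul_smul := fun x y m => Additive.toMul.injective (Subtype.ext (by
        show ((x : G) * y) * (m.toMul : G) * ((x : G) * y)⁻¹ = (x : G) * ((y : G) * (m.toMul : G) * (y : G)⁻¹) * (x : G)⁻¹
        group))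
      smul_zero := fun x => Additive.toMul.injective (Subtype.ext (by
        show (x : G) * (1 : G) * (x : G)⁻¹ = 1
        group))
      smul_add := fun x m n => Additive.toMul.injective (Subtype.ext (by
        show (x : G) * ((m.toMul : G) * (n.toMul : G)) * (x : G)⁻¹ =
          ((x : G) * (m.toMul : G) * (x : G)⁻¹) * ((x : G) * (n.toMul : G) * (x : G)⁻¹)
        group)) }
  have hss : Semisimple H (Additive M) := fun U hU => by
    let U' : Subgroup G := U.toSubgroup'.map M.subtype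
    have hU'M : U' ≤ M := Subgroup.map_subtype_le _
    have hU'n : U'.Normal := by
      rw [← Subgroup.normalizer_eq_top_iff, eq_top_iff, ← htop]
      refine sup_le (fun h hh => ?_) (fun m hm => ?_)
      all_goals rw [Subgroup.mem_normalizer_iff]; intro x; constructor
      · rintro ⟨y, hy, rfl⟩
        exact ⟨_, hU ⟨h, hh⟩ _ hy, rfl⟩
      · rintro ⟨y, hy, he⟩
        refine ⟨_, hU ⟨h, hh⟩⁻¹ _ hy, ?_⟩
        show h⁻¹ * (y : G) * h⁻¹⁻¹ = x
        rw [show (y : G) = h * x * h⁻¹ from he]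
        group
      · intro hx
        rwa [hMc m hm x (hU'M hx), mul_inv_cancel_right]
      · intro hx
        have h2 := hMc m⁻¹ (M.inv_mem hm) (m * x * m⁻¹) (hU'M hx)
        have h1 : x = m * x * m⁻¹ := by
          calc x = m⁻¹ * (m * x * m⁻¹) * m := by group
            _ = m * x * m⁻¹ := by rw [h2, inv_mul_cancel_right]
        rwa [h1]
    rcases hMmin U' hU'n hU'M with h | h
    · refine ⟨⊤, fun _ _ _ => trivial, ?_, by simp⟩
      rw [inf_top_eq, AddSubgroup.eq_bot_iff_forall]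
      intro x hx
      have : (x.toMul : G) ∈ U' := ⟨x.toMul, hx, rfl⟩
      rw [h] at this
      exact Additive.toMul.injective (Subtype.ext this)
    · refine ⟨⊥, fun g w hw => by rw [AddSubgroup.mem_bot.1 hw, smul_zero]; exact zero_mem _, by simp, ?_⟩
      rw [sup_bot_eq, AddSubgroup.eq_top_iff']
      intro x
      obtain ⟨y, hy, he⟩ : (x.toMul : G) ∈ U' := h.symm ▸ x.toMul.2
      have : y = x.toMul := Subtype.ext he
      subst this
      exact hy
  have hHodd : Odd (Nat.card H) := hG.of_dvd_nat (Subgroup.card_subgroup_dvd_card H)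
  have hMle : Nat.card (Additive M) ≤ Nat.card Ω := by
    refine Nat.card_le_card_of_injective (fun m : Additive M => (m.toMul : G) • a) fun m n he => ?_
    exact Additive.toMul.injective (Subtype.ext (hfree _ m.toMul.2 _ n.toMul.2 he))
  obtain ⟨v₀, w₀, hvw⟩ := hlin H hHodd (Additive M) hMle hss
  set v : M := v₀.toMul
  set w : M := w₀.toMul
  -- an element fixing the base point and two points is trivial
  have hreg : ∀ g : G, g • a = a → g • (v : G) • a = (v : G) • a → g • (w : G) • a = (w : G) • a →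
      ∀ x : Ω, g • x = x := fun g hga hgv hgw x => by
    have hc : ∀ m : M, g • (m : G) • a = (g * (m : G) * g⁻¹) • a := fun m => by
      rw [mul_smul, mul_smul, inv_smul_eq_iff.2 hga.symm]
    have hconj : ∀ m : M, g • (m : G) • a = (m : G) • a → g * (m : G) * g⁻¹ = m := fun m hm =>
      hfree _ (hMn.conj_mem _ m.2 g) _ m.2 (by rw [← hc, hm])
    obtain ⟨m, hm, rfl⟩ := htr x
    have h1 := hvw ⟨g, hga⟩ (Additive.toMul.injective (Subtype.ext (hconj v hgv)))
      (Additive.toMul.injective (Subtype.ext (hconj w hgw))) (Additive.ofMul ⟨m, hm⟩)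
    rw [hc ⟨m, hm⟩]
    exact congrArg (fun k : Additive M => (k.toMul : G) • a) h1
  have htwo : ∀ b : Ω, (∀ g : G, g • a = a → g • b = b → ∀ x : Ω, g • x = x) → HasSet G Ω := by
    intro b hb
    refine ⟨{a, b}, fun g hg => hb g ?_ ?_⟩
    · have ha : g • a ∈ ({a, b} : Set Ω) := (hg a).2 (Or.inl rfl)
      rcases ha with h | h
      · exact h
      · by_cases hab : b = a
        · rw [h, hab]
        refine fixed_of_sq hG ?_
        rcases (hg b).2 (Or.inr rfl) with h' | h'
        · rw [h, h']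
        · exact absurd (MulAction.injective g (h'.trans h.symm)) hab
    · have hb' : g • b ∈ ({a, b} : Set Ω) := (hg b).2 (Or.inr rfl)
      rcases hb' with h | h
      · by_cases hab : b = a
        · rw [h, hab]
        refine fixed_of_sq hG ?_
        rcases (hg a).2 (Or.inl rfl) with h' | h'
        · exact absurd (MulAction.injective g (h.trans h'.symm)) hab
        · rw [h, h']
      · exact h
  by_cases hv1 : v = 1
  · exact htwo ((w : G) • a) fun g h1 h2 => hreg g h1 (by rw [hv1, Subgroup.coe_one, one_smul]; exact h1) h2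
  by_cases hw1 : w = 1
  · exact htwo ((v : G) • a) fun g h1 h2 => hreg g h1 h2 (by rw [hw1, Subgroup.coe_one, one_smul]; exact h1)
  by_cases hvw1 : v = w
  · exact htwo ((v : G) • a) fun g h1 h2 => hreg g h1 h2 (hvw1 ▸ h2)
  by_cases hvw2 : v * w = 1
  · refine htwo ((v : G) • a) fun g h1 h2 => hreg g h1 h2 ?_
    have hwv : (w : G) = (v : G)⁻¹ := by
      rw [← mul_eq_one_iff_eq_inv', ← Subgroup.coe_mul, hvw2, Subgroup.coe_one]
    rw [hwv]
    have hgv : g * (v : G) * g⁻¹ = v := hfree _ (hMn.conj_mem _ v.2 g) _ v.2 (by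
      rw [mul_smul, mul_smul, inv_smul_eq_iff.2 h1.symm, h2])
    have hgvi : g * (v : G)⁻¹ * g⁻¹ = (v : G)⁻¹ := by
      calc g * (v : G)⁻¹ * g⁻¹ = (g * (v : G) * g⁻¹)⁻¹ := by group
        _ = _ := by rw [hgv]
    conv_rhs => rw [← hgvi, mul_smul, mul_smul, inv_smul_eq_iff.2 h1.symm]
  refine ⟨{x | ∃ m ∈ ({1, v, w, v * w} : Set M), (m : G) • a = x}, fun g hg => ?_⟩
  choose co hcoM hco using htr
  let φ : M → M := fun m => ⟨co (g • (m : G) • a), hcoM _⟩
  have hφ : ∀ m : M, (φ m : G) • a = g • (m : G) • a := fun m => hco _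
  have hφi : Function.Injective φ := fun m n he => Subtype.ext (hfree _ m.2 _ n.2
    (MulAction.injective g (show g • (m : G) • a = g • (n : G) • a by rw [← hφ, ← hφ, he])))
  -- `g = c h` with `c ∈ M`
  set c : M := φ 1
  have hfa : ∀ m : M, φ m = ⟨g * m * g⁻¹, hMn.conj_mem _ m.2 g⟩ * c := fun m => Subtype.ext (hfree _ (φ m).2 _
    (M.mul_mem (hMn.conj_mem _ m.2 g) c.2) (by
      show (φ m : G) • a = ((g * (m : G) * g⁻¹) * (φ 1 : G)) • a
      rw [hφ, mul_smul _ (φ 1 : G), hφ 1, Subgroup.coe_one, one_smul, smul_smul, smul_smul, inv_mul_cancel_right]))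
  have haff : ∀ x y, φ (x * y) * φ 1 = φ x * φ y := fun x y => by
    rw [hfa (x * y), hfa x, hfa y, mul_mul_mul_comm]
    show _ * c * c = _ * _ * (c * c)
    rw [mul_assoc]
    congr 1
    exact Subtype.ext (by
      show g * ((x : G) * y) * g⁻¹ = g * x * g⁻¹ * (g * y * g⁻¹)
      group)
  have hS : ∀ x ∈ ({1, v, w, v * w} : Set M), φ x ∈ ({1, v, w, v * w} : Set M) := fun x hx => by
    obtain ⟨m, hm, he⟩ := (hg ((x : G) • a)).2 ⟨x, hx, rfl⟩
    have : φ x = m := Subtype.ext (hfree _ (φ x).2 _ m.2 (by rw [hφ, he]))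
    rwa [this]
  have hit : ∀ k (m : M), ((φ^[k] m : M) : G) • a = g ^ k • (m : G) • a := by
    intro k
    induction k with
    | zero => intro m; rw [pow_zero, one_smul]; rfl
    | succ k ih => intro m; rw [Function.iterate_succ_apply', hφ, ih, pow_succ', mul_smul g (g ^ k)]
  obtain ⟨hf1, hfv, hfw⟩ := fix_of_parallelogram (hG.of_dvd_nat (Subgroup.card_subgroup_dvd_card M))
    φ hv1 hw1 hvw1 hvw2 hφi haff hS
    ⟨orderOf g, hG.of_dvd_nat (orderOf_dvd_natCard g), fun m =>
      Subtype.ext (hfree _ (φ^[orderOf g] m).2 _ m.2 (by rw [hit, pow_orderOf_eq_one, one_smul]))⟩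
  refine hreg g ?_ (by rw [← hφ, hfv]) (by rw [← hφ, hfw])
  have := hφ 1
  rwa [hf1, Subgroup.coe_one, one_smul, eq_comm] at this

/-- The induction step. -/
theorem set_step {N : ℕ} (hlin : LinearUpTo.{u} N) (hsmall : ∀ K < N, SetUpTo.{u} K) : SetUpTo.{u} N := by
  classical
  intro G _ _ hG Ω _ _ hΩ
  rcases isEmpty_or_nonempty Ω with hE | ⟨⟨a⟩⟩
  · exact ⟨∅, fun g _ x => isEmptyElim x⟩
  have hrec : ∀ (H : Subgroup G) (Θ : Type u) [Finite Θ] [MulAction H Θ], Nat.card Θ < N → HasSet H Θ :=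
    fun H Θ _ _ hlt => hsmall _ hlt H (hG.of_dvd_nat (Subgroup.card_subgroup_dvd_card H)) Θ le_rfl
  -- a fibred action
  have hfibred : ∀ (Ω' : Type u) [Finite Ω'] [MulAction G Ω'] (π : Ω → Ω'),
      (∀ (g : G) x, π (g • x) = g • π x) → Function.Surjective π → Nat.card Ω' < Nat.card Ω →
      (∀ i, Nat.card {x // π x = i} < Nat.card Ω) → HasSet G Ω := by
    intro Ω' _ _ π hπ hsurj hlt hlt'
    refine hasSet_fibred hG π hπ hsurj (hsmall _ (hlt.trans_le hΩ) G hG Ω' le_rfl) fun i => ?_
    letI : MulAction (stabilizer G i) {x // π x = i} :=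
      { smul := fun g x => ⟨(g : G) • x.1, by rw [hπ, x.2]; exact g.2⟩
        one_smul := fun x => Subtype.ext (one_smul G x.1)
        mul_smul := fun g h x => Subtype.ext (mul_smul (g : G) (h : G) x.1) }
    obtain ⟨S, hS⟩ := hrec (stabilizer G i) {x // π x = i} ((hlt' i).trans_le hΩ)
    refine ⟨Subtype.val '' S, fun g hgi hgS x hx => congrArg Subtype.val (hS ⟨g, hgi⟩ (fun y => ?_) ⟨x, hx⟩)⟩
    have := hgS y.1 y.2
    rw [Set.mem_image, Set.mem_image] at this
    constructor
    · intro hy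
      obtain ⟨z, hz, he⟩ := this.1 ⟨_, hy, rfl⟩
      rwa [← Subtype.ext (a1 := z) (a2 := y) he]
    · intro hy
      obtain ⟨z, hz, he⟩ := this.2 ⟨_, hy, rfl⟩
      convert hz using 1
      exact Subtype.ext he.symm
  by_cases hfix : ∀ (g : G) (x : Ω), g • x = x
  · exact ⟨∅, fun g _ x => hfix g x⟩
  push Not at hfix
  obtain ⟨g₁, a, hga⟩ := hfix
  by_cases htr : IsPretransitive G Ω
  swap
  · -- several orbits
    letI : MulAction G (ULift.{u} Bool) :=
      { smul := fun _ b => b, one_smul := fun _ => rfl, mul_smul := fun _ _ _ => rfl }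
    obtain ⟨b, hb⟩ : ∃ b : Ω, b ∉ orbit G a := by
      by_contra hall
      push Not at hall
      exact htr ⟨fun x y => by
        obtain ⟨g, rfl⟩ := hall x
        obtain ⟨k, rfl⟩ := hall y
        exact ⟨k * g⁻¹, by show (k * g⁻¹) • g • a = k • a; rw [smul_smul, inv_mul_cancel_right]⟩⟩
    have hiff : ∀ (g : G) x, g • x ∈ orbit G a ↔ x ∈ orbit G a := fun g x => by
      rw [← orbit_eq_iff, orbit_smul, orbit_eq_iff]
    refine hfibred (ULift.{u} Bool) (fun x => ⟨decide (x ∈ orbit G a)⟩)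
      (fun g x => congrArg ULift.up (decide_eq_decide.2 (hiff g x))) (fun i => ?_) ?_ fun i => ?_
    · obtain ⟨_ | _⟩ := i
      · exact ⟨b, by simp [hb]⟩
      · exact ⟨a, by simp⟩
    · haveI := Fintype.ofFinite Ω
      rw [Nat.card_eq_fintype_card, Nat.card_eq_fintype_card, Fintype.card_ulift, Fintype.card_bool]
      exact Fintype.two_lt_card_iff.2 ⟨a, g₁ • a, b, Ne.symm hga, fun h => hb (h ▸ mem_orbit_self a),
        fun h => hb (h ▸ mem_orbit a g₁)⟩
    · haveI := Fintype.ofFinite Ω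
      rw [Nat.card_eq_fintype_card, Nat.card_eq_fintype_card]
      obtain ⟨_ | _⟩ := i
      · exact Fintype.card_subtype_lt (x := a) (by simp)
      · exact Fintype.card_subtype_lt (x := b) (by simp [hb])
  by_cases hmax : IsCoatom (stabilizer G a)
  · -- a maximal stabiliser: pass to the permutation group
    let P := (MulAction.toPermHom G Ω).range
    have hPodd : Odd (Nat.card P) := hG.of_dvd_nat (Subgroup.card_range_dvd _)
    letI : MulAction P Ω := MulAction.compHom Ω P.subtype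
    haveI : FaithfulSMul P Ω := ⟨fun {x y} h => Subtype.ext (Equiv.ext h)⟩
    haveI : IsPretransitive P Ω := ⟨fun x y => by
      obtain ⟨g, hg⟩ := exists_smul_eq G x y
      exact ⟨⟨_, g, rfl⟩, hg⟩⟩
    let f : G →* P := (MulAction.toPermHom G Ω).rangeRestrict
    have hf : Function.Surjective f := MonoidHom.rangeRestrict_surjective _
    have hst : (stabilizer P a).comap f = stabilizer G a := by
      ext g; rfl
    have hmax' : IsCoatom (stabilizer P a) := by
      refine ⟨fun h => hmax.1 (by rw [← hst, h, Subgroup.comap_top]), fun K hK => ?_⟩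
      have h1 := hmax.2 (K.comap f) (hst ▸ (Subgroup.comap_lt_comap_of_surjective hf).2 hK)
      refine Subgroup.comap_injective hf ?_
      rw [h1, Subgroup.comap_top]
    obtain ⟨S, hS⟩ := hasSet_maximal hPodd a hmax' (fun A _ _ hA V _ _ _ hV => hlin A hA V (hV.trans hΩ))
    exact ⟨S, fun g hg x => hS (f g) hg x⟩
  -- blocks
  have hne : stabilizer G a ≠ ⊤ := fun h => hga (h ▸ Subgroup.mem_top g₁ : g₁ ∈ stabilizer G a)
  obtain ⟨K, hK, hK'⟩ : ∃ K, stabilizer G a < K ∧ K ≠ ⊤ := by
    by_contra hall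
    push Not at hall
    exact hmax ⟨hne, hall⟩
  choose co hco using fun x : Ω => exists_smul_eq G a x
  have hπ : ∀ (g : G) x, ((co (g • x) : G) : G ⧸ K) = g • ((co x : G) : G ⧸ K) := fun g x => by
    show _ = ((g * co x : G) : G ⧸ K)
    refine QuotientGroup.eq.2 (hK.le ?_)
    rw [mem_stabilizer_iff, mul_smul, mul_smul, hco, inv_smul_eq_iff, hco]
  have hk : ∀ k : G, ((co (k • a) : G) : G ⧸ K) = (k : G ⧸ K) := fun k => QuotientGroup.eq.2 (hK.le (by
    rw [mem_stabilizer_iff, mul_smul, inv_smul_eq_iff, hco]))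
  have hcardΩ : (stabilizer G a).index = Nat.card Ω := index_stabilizer_of_transitive G a
  refine hfibred (G ⧸ K) (fun x => (co x : G ⧸ K)) hπ (fun i => ?_) ?_ fun i => ?_
  · induction i using QuotientGroup.induction_on with
    | H k =>
      exact ⟨k • a, hk k⟩
  · rw [← Subgroup.index_eq_card, ← hcardΩ]
    exact Subgroup.index_strictAnti hK
  · haveI := Fintype.ofFinite Ω
    rw [Nat.card_eq_fintype_card, Nat.card_eq_fintype_card]
    obtain ⟨j, hj⟩ : ∃ j : G ⧸ K, j ≠ i := by
      by_contra hall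
      push Not at hall
      haveI : Subsingleton (G ⧸ K) := ⟨fun x y => (hall x).trans (hall y).symm⟩
      exact hK' (Subgroup.index_eq_one.1 (Nat.card_of_subsingleton i))
    induction j using QuotientGroup.induction_on with
    | H k =>
      exact Fintype.card_subtype_lt (x := k • a) (hk k ▸ hj)

end CfsgLib.BaseTwo
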