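import Mathlib

/-!
# Regular pairs and distinguishing sets for groups of odd order: definitions
-/

set_option autoImplicit false

universe u v

namespace CfsgLib.BaseTwo

section Defs

variable (A : Type u) [Group A] (V : Type v) [AddCommGroup V] [DistribMulAction A V]

/-- Every invariant subgroup has an invariant complement. -/
def Semisimple : Prop :=
  ∀ U : AddSubgroup V, (∀ a : A, ∀ v ∈ U, a • v ∈ U) →
    ∃ W : AddSubgroup V, (∀ a : A, ∀ w ∈ W, a • w ∈ W) ∧ U ⊓ W = ⊥ ∧ U ⊔ W = ⊤

/-- Two vectors whose common stabiliser acts trivially. -/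
def HasPair : Prop :=
  ∃ v w : V, ∀ a : A, a • v = v → a • w = w → ∀ x : V, a • x = x

end Defs

/-- A group has a set of points whose setwise stabiliser acts trivially. -/
def HasSet (G : Type u) [Group G] (Ω : Type v) [MulAction G Ω] : Prop :=
  ∃ S : Set Ω, ∀ g : G, (∀ x, g • x ∈ S ↔ x ∈ S) → ∀ x : Ω, g • x = x

/-- The statement for modules of order at most `N`. -/
def LinearUpTo (N : ℕ) : Prop :=
  ∀ (A : Type u) [Group A] [Finite A], Odd (Nat.card A) →
    ∀ (V : Type u) [AddCommGroup V] [Finite V] [DistribMulAction A V],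
      Nat.card V ≤ N → Semisimple A V → HasPair A V

/-- The statement for sets of size at most `N`. -/
def SetUpTo (N : ℕ) : Prop :=
  ∀ (G : Type u) [Group G] [Finite G], Odd (Nat.card G) →
    ∀ (Ω : Type u) [Finite Ω] [MulAction G Ω], Nat.card Ω ≤ N → HasSet G Ω

/-- In a group of odd order an element fixes what its square fixes. -/
theorem fixed_of_sq {G : Type u} [Group G] [Finite G] (hG : Odd (Nat.card G)) {X : Type v}
    [MulAction G X] {g : G} {x : X} (h : g • g • x = x) : g • x = x := by
  have h2 : g * g ∈ MulAction.stabilizer G x :=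
    MulAction.mem_stabilizer_iff.2 (by rw [mul_smul]; exact h)
  obtain ⟨k, hk⟩ : Odd (orderOf g) := hG.of_dvd_nat (orderOf_dvd_natCard g)
  have h3 : g = (g * g) ^ (k + 1) := by
    rw [← pow_two, ← pow_mul, show 2 * (k + 1) = orderOf g + 1 by omega, pow_succ,
      pow_orderOf_eq_one, one_mul]
  rw [← MulAction.mem_stabilizer_iff, h3]
  exact pow_mem h2 _

/-- A regular pair gives two pairs that are not equivalent. -/
theorem HasPair.two {A : Type u} [Group A] [Finite A] {V : Type v} [AddCommGroup V] [DistribMulAction A V]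
    [Nontrivial V] (hA : Odd (Nat.card A)) (h : HasPair A V) :
    ∃ p q : V × V, (∀ a : A, a • p = p → ∀ x : V, a • x = x) ∧
      (∀ a : A, a • q = q → ∀ x : V, a • x = x) ∧ ∀ a : A, a • p ≠ q := by
  obtain ⟨v, w, hvw⟩ := h
  have hp : ∀ a : A, a • (v, w) = (v, w) → ∀ x : V, a • x = x := fun a ha =>
    hvw a (congrArg Prod.fst ha) (congrArg Prod.snd ha)
  by_cases hne : v = w
  · obtain ⟨u, hu0, hu⟩ : ∃ u : V, u ≠ 0 ∧ ∀ a : A, a • u = u → ∀ x : V, a • x = x := by
      by_cases hv : v = 0
      · obtain ⟨u, hu⟩ := exists_ne (0 : V)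
        exact ⟨u, hu, fun a _ => hvw a (by rw [hv, smul_zero]) (by rw [← hne, hv, smul_zero])⟩
      · exact ⟨v, hv, fun a ha => hvw a ha (hne ▸ ha)⟩
    refine ⟨(u, 0), (0, u), fun a ha => hu a (congrArg Prod.fst ha),
      fun a ha => hu a (congrArg Prod.snd ha), fun a ha => hu0 ?_⟩
    have h1 : a • u = 0 := congrArg Prod.fst ha
    exact (smul_eq_zero_iff_eq a).1 h1
  · refine ⟨(v, w), (w, v), hp, fun a ha => hvw a (congrArg Prod.snd ha) (congrArg Prod.fst ha),
      fun a ha => hne ?_⟩
    have h1 : a • v = w := congrArg Prod.fst ha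
    have h2 : a • w = v := congrArg Prod.snd ha
    rw [← fixed_of_sq hA (show a • a • v = v by rw [h1, h2]), h1]

end CfsgLib.BaseTwo
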