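import Cfsg.Agent.Lib.FgsC.BaseTwo.Form
import Cfsg.Agent.Lib.FT.OddOrderTheorem

/-!
# The class two section over a maximal abelian normal subgroup

`A` is maximal abelian normal in the soluble group `G` and `N` maximal normal with `[N, N] ≤ A ≤ Z(N)`;
for a faithful character of `A` the centralisers of subgroups of `N / A` are orthogonal complements.
-/

set_option autoImplicit false

universe u v

namespace CfsgLib.BaseTwo

open scoped commutatorElement

/-- The section. -/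
structure Sect (G : Type u) [Group G] where
  A : Subgroup G
  N : Subgroup G
  hA : A.Normal
  hN : N.Normal
  hAN : A ≤ N
  hNC : N ≤ Subgroup.centralizer (A : Set G)
  hNN : ∀ x ∈ N, ∀ y ∈ N, ⁅x, y⁆ ∈ A
  hcent : Subgroup.centralizer (A : Set G) ⊓ Subgroup.centralizer (N : Set G) ≤ A
  hmax : ∀ U : Subgroup G, U.Normal → A ≤ U → (∀ x ∈ U, ∀ y ∈ U, x * y = y * x) → U = A

theorem exists_sect (G : Type u) [Group G] [Finite G] (hs : Group.IsSolvable G) : Nonempty (Sect G) := by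
  classical
  obtain ⟨A, ⟨hAn, hAc⟩, hAmax⟩ := Set.Finite.exists_maximal
    (s := {A : Subgroup G | A.Normal ∧ ∀ x ∈ A, ∀ y ∈ A, x * y = y * x}) (Set.toFinite _)
    ⟨⊥, inferInstance, fun x hx y hy => by rw [Subgroup.mem_bot.1 hx, Subgroup.mem_bot.1 hy]⟩
  haveI := hAn
  have hAC : A ≤ Subgroup.centralizer (A : Set G) := fun x hx =>
    Subgroup.mem_centralizer_iff.2 fun y hy => hAc y hy x hx
  obtain ⟨N, ⟨hNn, hAN, hNC, hNN⟩, hNmax⟩ := Set.Finite.exists_maximal
    (s := {N : Subgroup G | N.Normal ∧ A ≤ N ∧ N ≤ Subgroup.centralizer (A : Set G) ∧ ⁅N, N⁆ ≤ A})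
    (Set.toFinite _) ⟨A, hAn, le_rfl, hAC, Subgroup.commutator_le_right A A⟩
  haveI := hNn
  have hmax : ∀ U : Subgroup G, U.Normal → A ≤ U → (∀ x ∈ U, ∀ y ∈ U, x * y = y * x) → U = A :=
    fun U hU hAU hUc => le_antisymm (hAmax (y := U) ⟨hU, hUc⟩ hAU) hAU
  refine ⟨⟨A, N, hAn, hNn, hAN, hNC,
    fun x hx y hy => hNN (Subgroup.commutator_mem_commutator hx hy), ?_, hmax⟩⟩
  set X := Subgroup.centralizer (A : Set G) ⊓ Subgroup.centralizer (N : Set G) with hX
  have hAX : A ≤ X := le_inf hAC (Subgroup.le_centralizer_iff.1 hNC)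
  have hNX : N ⊓ X ≤ A := by
    refine (hmax (N ⊓ X) inferInstance (le_inf hAN hAX) fun x hx y hy => ?_).le
    exact (Subgroup.mem_centralizer_iff.1 (Subgroup.mem_inf.1 (Subgroup.mem_inf.1 hy).2).2 x
      (Subgroup.mem_inf.1 hx).1)
  by_contra hcon
  obtain ⟨n, hn⟩ := (Group.isSolvable_def G).1 hs
  have hex : ∃ k, derivedSeries G k ⊓ X ≤ A := ⟨n, by rw [hn, bot_inf_eq]; exact bot_le⟩
  obtain ⟨k, hk⟩ : ∃ k, Nat.find hex = k + 1 := Nat.exists_eq_succ_of_ne_zero fun h => hcon (by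
    have h0 := Nat.find_spec hex
    rw [h, derivedSeries_zero, top_inf_eq] at h0
    exact h0)
  set Y := derivedSeries G k ⊓ X with hY
  have h1 : ¬ Y ≤ A := Nat.find_min hex (by omega)
  have h2 : ⁅Y, Y⁆ ≤ A := by
    refine le_trans (le_inf ?_ ?_) (hk ▸ Nat.find_spec hex)
    · rw [derivedSeries_succ]
      exact Subgroup.commutator_mono inf_le_left inf_le_left
    · exact (Subgroup.commutator_le_right Y Y).trans inf_le_right
  haveI : Y.Normal := inferInstance
  have hYN : Y ≤ N := by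
    refine le_trans le_sup_right (hNmax (y := N ⊔ Y) ⟨Subgroup.sup_normal N Y, le_trans hAN le_sup_left,
      sup_le hNC (inf_le_right.trans inf_le_left), ?_⟩ le_sup_left)
    have hbot : ∀ P Q : Subgroup G, ⁅P, Q⁆ ≤ A →
        P.map (QuotientGroup.mk' A) ≤ Subgroup.centralizer (Q.map (QuotientGroup.mk' A) : Set (G ⧸ A)) := by
      intro P Q h
      rw [← Subgroup.commutator_eq_bot_iff_le_centralizer, ← Subgroup.map_commutator, Subgroup.map_eq_bot_iff,
        QuotientGroup.ker_mk']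
      exact h
    have hNY : ⁅N, Y⁆ ≤ A := by
      rw [(Subgroup.commutator_eq_bot_iff_le_centralizer.2
        (Subgroup.le_centralizer_iff.1 (inf_le_right.trans inf_le_right)) : ⁅N, Y⁆ = ⊥)]
      exact bot_le
    have hYN : ⁅Y, N⁆ ≤ A := by rwa [Subgroup.commutator_comm]
    rw [← QuotientGroup.ker_mk' A, ← Subgroup.map_eq_bot_iff, Subgroup.map_commutator,
      Subgroup.commutator_eq_bot_iff_le_centralizer, Subgroup.map_sup]
    refine sup_le ?_ ?_ <;> rw [Subgroup.le_centralizer_iff] <;> refine sup_le ?_ ?_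
    · exact hbot N N hNN
    · exact hbot Y N hYN
    · exact hbot N Y hNY
    · exact hbot Y Y h2
  exact h1 (le_trans (le_inf hYN inf_le_right) hNX)

namespace Sect

variable {G : Type u} [Group G] (S : Sect G)

/-- The centraliser of `A`. -/
abbrev C : Subgroup G := Subgroup.centralizer (S.A : Set G)

theorem comm_A {a x : G} (ha : a ∈ S.A) (hx : x ∈ S.C) : a * x = x * a :=
  Subgroup.mem_centralizer_iff.1 hx a ha

theorem A_le_C : S.A ≤ S.C := S.hAN.trans S.hNC

/-- The elements acting trivially on `N / A`. -/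
def K : Subgroup G where
  carrier := {g | ∀ x ∈ S.N, ⁅g, x⁆ ∈ S.A}
  one_mem' x _ := by rw [commutatorElement_one_left]; exact S.A.one_mem
  mul_mem' {a b} ha hb x hx := by
    rw [show ⁅a * b, x⁆ = (a * ⁅b, x⁆ * a⁻¹) * ⁅a, x⁆ by simp only [commutatorElement_def]; group]
    exact S.A.mul_mem (S.hA.conj_mem _ (hb x hx) a) (ha x hx)
  inv_mem' {a} ha x hx := by
    rw [show ⁅a⁻¹, x⁆ = a⁻¹ * ⁅a, x⁆⁻¹ * a⁻¹⁻¹ by simp only [commutatorElement_def]; group]
    exact S.hA.conj_mem _ (S.A.inv_mem (ha x hx)) a⁻¹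

theorem N_le_K : S.N ≤ S.K := fun g hg x hx => S.hNN g hg x hx

theorem eq_A_of_centralizes {X : Subgroup G} (hX : X ≤ S.C) : X ⊓ Subgroup.centralizer (S.N : Set G) ≤ S.A :=
  le_trans (inf_le_inf_right _ hX) S.hcent

omit S in
theorem relIndex_pos [Finite G] (H K : Subgroup G) : 0 < H.relIndex K :=
  Nat.pos_of_ne_zero fun h => (Nat.card_pos (α := K ⧸ H.subgroupOf K)).ne' (by
    rw [← Subgroup.index_eq_card]; exact h)

variable [Finite G] {R : Type v} [CommRing R] [IsDomain R] (χ : S.A →* R) (hχ : Function.Injective χ)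
include χ hχ

/-- Orthogonality. -/
theorem relIndex_eq (U : Subgroup G) (hAU : S.A ≤ U) (hUN : U ≤ S.N) :
    S.A.relIndex U = (S.N ⊓ Subgroup.centralizer (U : Set G)).relIndex S.N := by
  have h1 := relIndex_le_of_pairing χ hχ U S.N (fun a ha y hy => S.comm_A ha (S.hNC hy))
    (fun x hx y hy => S.hNN x (hUN hx) y hy)
  have h2 := relIndex_le_of_pairing χ hχ S.N U (fun a ha y hy => S.comm_A ha (S.hNC (hUN hy)))
    (fun x hx y hy => S.hNN x hx y (hUN hy))
  have h3 : U ⊓ Subgroup.centralizer (S.N : Set G) = S.A :=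
    le_antisymm (S.eq_A_of_centralizes (hUN.trans S.hNC))
      (le_inf hAU (Subgroup.le_centralizer_iff.1 S.hNC))
  rw [h3] at h1 h2
  exact le_antisymm h1 h2

/-- A square root of `|N / A|`. -/
theorem exists_sqrt : ∃ W : Subgroup G, S.A ≤ W ∧ W ≤ S.N ∧ (∀ x ∈ W, ∀ y ∈ W, x * y = y * x) ∧
    S.N ⊓ Subgroup.centralizer (W : Set G) = W ∧ S.A.relIndex S.N = S.A.relIndex W ^ 2 := by
  obtain ⟨W, ⟨hAW, hWN, hWc⟩, hWmax⟩ := Set.Finite.exists_maximal
    (s := {W : Subgroup G | S.A ≤ W ∧ W ≤ S.N ∧ ∀ x ∈ W, ∀ y ∈ W, x * y = y * x}) (Set.toFinite _)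
    ⟨S.A, le_rfl, S.hAN, fun x hx y hy => S.comm_A hx (S.A_le_C hy)⟩
  have hperp : S.N ⊓ Subgroup.centralizer (W : Set G) = W := by
    refine le_antisymm (fun y hy => ?_) (le_inf hWN fun x hx => Subgroup.mem_centralizer_iff.2 fun z hz => hWc z hz x hx)
    obtain ⟨hyN, hyW⟩ := Subgroup.mem_inf.1 hy
    have hU : ∀ x ∈ W ⊔ Subgroup.zpowers y, ∀ z ∈ W ⊔ Subgroup.zpowers y, x * z = z * x := by
      have hle : W ⊔ Subgroup.zpowers y ≤ Subgroup.centralizer ((W ⊔ Subgroup.zpowers y : Subgroup G) : Set G) := by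
        have hWW : W ≤ Subgroup.centralizer (W : Set G) :=
          fun x hx => Subgroup.mem_centralizer_iff.2 fun z hz => hWc z hz x hx
        have hWy : Subgroup.zpowers y ≤ Subgroup.centralizer (W : Set G) := Subgroup.zpowers_le.2 hyW
        have hyy : Subgroup.zpowers y ≤ Subgroup.centralizer (Subgroup.zpowers y : Set G) := fun x hx =>
          Subgroup.mem_centralizer_iff.2 fun z hz => by
            obtain ⟨i, rfl⟩ := Subgroup.mem_zpowers_iff.1 hx
            obtain ⟨j, rfl⟩ := Subgroup.mem_zpowers_iff.1 hz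
            rw [← zpow_add, ← zpow_add, add_comm]
        refine sup_le ?_ ?_ <;> rw [Subgroup.le_centralizer_iff] <;> refine sup_le ?_ ?_
        · exact hWW
        · exact hWy
        · exact Subgroup.le_centralizer_iff.1 hWy
        · exact hyy
      exact fun x hx z hz => Subgroup.mem_centralizer_iff.1 (hle hz) x hx
    exact hWmax (y := W ⊔ Subgroup.zpowers y)
      ⟨hAW.trans le_sup_left, sup_le hWN (Subgroup.zpowers_le.2 hyN), hU⟩ le_sup_left
      (Subgroup.mem_sup_right (Subgroup.mem_zpowers y))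
  refine ⟨W, hAW, hWN, hWc, hperp, ?_⟩
  have h1 := S.relIndex_eq χ hχ W hAW hWN
  rw [hperp] at h1
  rw [← Subgroup.relIndex_mul_relIndex _ _ _ hAW hWN, ← h1, pow_two]

/-- The kernel of the action on `N / A` inside the centraliser of `A` is `N`. -/
theorem C_inf_K : S.C ⊓ S.K = S.N := by
  refine le_antisymm ?_ (le_inf S.hNC S.N_le_K)
  have h1 := relIndex_le_of_pairing χ hχ (S.C ⊓ S.K) S.N (fun a ha y hy => S.comm_A ha (S.hNC hy))
    (fun x hx y hy => (Subgroup.mem_inf.1 hx).2 y hy)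
  have h3 : S.C ⊓ S.K ⊓ Subgroup.centralizer (S.N : Set G) = S.A :=
    le_antisymm (S.eq_A_of_centralizes inf_le_left)
      (le_inf (le_inf S.A_le_C (S.hAN.trans S.N_le_K)) (Subgroup.le_centralizer_iff.1 S.hNC))
  have h4 : S.N ⊓ Subgroup.centralizer ((S.C ⊓ S.K : Subgroup G) : Set G) = S.A := by
    refine le_antisymm ?_ (le_inf S.hAN (Subgroup.le_centralizer_iff.1 (inf_le_left : S.C ⊓ S.K ≤ S.C)))
    refine le_trans (inf_le_inf_left _ (Subgroup.centralizer_le ?_)) (S.eq_A_of_centralizes S.hNC)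
    exact le_inf S.hNC S.N_le_K
  rw [h3, h4] at h1
  have h5 := Subgroup.relIndex_mul_relIndex S.A S.N (S.C ⊓ S.K) S.hAN (le_inf S.hNC S.N_le_K)
  have h6 : 0 < S.A.relIndex S.N := relIndex_pos _ _
  have h7 : 0 < S.N.relIndex (S.C ⊓ S.K) := relIndex_pos _ _
  have : S.N.relIndex (S.C ⊓ S.K) = 1 := by nlinarith
  exact Subgroup.relIndex_eq_one.1 this

omit χ hχ in
/-- Elements of `N` outside `A` move something of `N`. -/
theorem exists_comm_ne {g : G} (hg : g ∈ S.C) (hgA : g ∉ S.A) : ∃ x ∈ S.N, ⁅g, x⁆ ≠ 1 := by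
  by_contra hall
  push Not at hall
  exact hgA (S.hcent (Subgroup.mem_inf.2 ⟨hg, Subgroup.mem_centralizer_iff.2 fun x hx =>
    ((commutatorElement_eq_one_iff_mul_comm).1 (hall x hx)).symm⟩))

/-- A normal subgroup between `A` and `N` has a normal complement modulo `A`. -/
theorem complement (U : Subgroup G) [U.Normal] (hAU : S.A ≤ U) (hUN : U ≤ S.N) :
    ∃ W : Subgroup G, W.Normal ∧ S.A ≤ W ∧ W ≤ S.N ∧ U ⊓ W = S.A ∧ U ⊔ W = S.N := by
  haveI := S.hA
  haveI := S.hN
  set W := S.N ⊓ Subgroup.centralizer (U : Set G) with hW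
  have hAW : S.A ≤ W := le_inf S.hAN (Subgroup.le_centralizer_iff.1 (hUN.trans S.hNC))
  have hmeet : U ⊓ W = S.A := S.hmax (U ⊓ W) inferInstance (le_inf hAU hAW) fun x hx y hy =>
    (Subgroup.mem_centralizer_iff.1 (Subgroup.mem_inf.1 (Subgroup.mem_inf.1 hy).2).2 x
      (Subgroup.mem_inf.1 hx).1)
  refine ⟨W, inferInstance, hAW, inf_le_left, hmeet, le_antisymm (sup_le hUN inf_le_left) ?_⟩
  have h1 : W.relIndex (U ⊔ W) = W.relIndex U := Subgroup.relIndex_sup_right U W
  have h2 : W.relIndex U = S.A.relIndex U := by rw [← hmeet, Subgroup.inf_relIndex_left]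
  have h3 := Subgroup.relIndex_mul_relIndex W (U ⊔ W) S.N le_sup_right (sup_le hUN inf_le_left)
  rw [h1, h2, S.relIndex_eq χ hχ U hAU hUN] at h3
  have h4 : 0 < W.relIndex S.N := relIndex_pos _ _
  have : (U ⊔ W).relIndex S.N = 1 := by nlinarith
  exact Subgroup.relIndex_eq_one.1 this

end Sect

end CfsgLib.BaseTwo
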