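import Cfsg.Agent.Lib.FgsC.BaseTwo.Basic
import Cfsg.Agent.Lib.FgsC.BaseTwo.Structure

/-!
# `N / A` as a semisimple module with an alternating pairing
-/

set_option autoImplicit false

universe u v

namespace CfsgLib.BaseTwo

open scoped commutatorElement

namespace Sect

variable {G : Type u} [Group G] (S : Sect G)

instance normal_A : S.A.Normal := S.hA

instance normal_N : S.N.Normal := S.hN

/-- The quotient. -/
abbrev Q : Type u := S.N ⧸ S.A.subgroupOf S.N

instance commQ : CommGroup S.Q :=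
  { (inferInstance : Group S.Q) with
    mul_comm := by
      intro a b
      induction a using QuotientGroup.induction_on with
      | H x =>
        induction b using QuotientGroup.induction_on with
        | H y =>
          rw [← QuotientGroup.mk_mul, ← QuotientGroup.mk_mul, QuotientGroup.eq, Subgroup.mem_subgroupOf]
          rw [show ((((x * y)⁻¹ * (y * x) : S.N)) : G) = ⁅(y : G)⁻¹, (x : G)⁻¹⁆ by
            simp only [Subgroup.coe_mul, Subgroup.coe_inv, commutatorElement_def]; group]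
          exact S.hNN _ (S.N.inv_mem y.2) _ (S.N.inv_mem x.2) }

instance commA : CommGroup S.A :=
  { (inferInstance : Group S.A) with mul_comm := fun x y => Subtype.ext (S.comm_A x.2 (S.A_le_C y.2)) }

/-- Conjugation on `N`. -/
def cjN (g : G) : S.N →* S.N where
  toFun x := ⟨g * x * g⁻¹, S.hN.conj_mem x x.2 g⟩
  map_one' := Subtype.ext (by show g * (1 : G) * g⁻¹ = 1; group)
  map_mul' x y := Subtype.ext (by show g * ((x : G) * y) * g⁻¹ = g * x * g⁻¹ * (g * y * g⁻¹); group)

/-- Conjugation on the quotient. -/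
def cjQ (g : G) : S.Q →* S.Q :=
  QuotientGroup.map _ _ (S.cjN g) fun x hx => Subgroup.mem_subgroupOf.2 (S.hA.conj_mem _ (Subgroup.mem_subgroupOf.1 hx) g)

theorem cjQ_mk (g : G) (x : S.N) : S.cjQ g (x : S.Q) = (S.cjN g x : S.Q) := rfl

instance moduleM : DistribMulAction G (Additive S.Q) where
  smul g m := Additive.ofMul (S.cjQ g m.toMul)
  one_smul m := Additive.toMul.injective (by
    show S.cjQ 1 m.toMul = m.toMul
    induction m.toMul using QuotientGroup.induction_on with
    | H x => rw [cjQ_mk]; congr 1; exact Subtype.ext (by show (1 : G) * x * (1 : G)⁻¹ = x; group))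
  mul_smul g h m := Additive.toMul.injective (by
    show S.cjQ (g * h) m.toMul = S.cjQ g (S.cjQ h m.toMul)
    induction m.toMul using QuotientGroup.induction_on with
    | H x =>
      rw [cjQ_mk, cjQ_mk, cjQ_mk]; congr 1
      exact Subtype.ext (by show g * h * (x : G) * (g * h)⁻¹ = g * (h * x * h⁻¹) * g⁻¹; group))
  smul_zero g := Additive.toMul.injective (map_one (S.cjQ g))
  smul_add g m k := Additive.toMul.injective (map_mul (S.cjQ g) m.toMul k.toMul)

/-- The class of an element. -/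
def cl (x : S.N) : Additive S.Q := Additive.ofMul (x : S.Q)

theorem cl_surjective : Function.Surjective S.cl := fun m => by
  obtain ⟨x, hx⟩ := QuotientGroup.mk_surjective m.toMul
  exact ⟨x, congrArg Additive.ofMul hx⟩

theorem cl_eq_cl {x y : S.N} : S.cl x = S.cl y ↔ (x : G)⁻¹ * y ∈ S.A := by
  rw [cl, cl, Additive.ofMul.injective.eq_iff, QuotientGroup.eq, Subgroup.mem_subgroupOf]
  rfl

theorem smul_cl (g : G) (x : S.N) : g • S.cl x = S.cl (S.cjN g x) := rfl

theorem cl_mul (x y : S.N) : S.cl (x * y) = S.cl x + S.cl y := rfl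

theorem fixed_iff {g : G} : (∀ m : Additive S.Q, g • m = m) ↔ g ∈ S.K := by
  have key : ∀ x : S.N, g • S.cl x = S.cl x ↔ ⁅g, (x : G)⁆ ∈ S.A := fun x => by
    rw [smul_cl, cl_eq_cl]
    show (g * (x : G) * g⁻¹)⁻¹ * x ∈ S.A ↔ _
    constructor <;> intro h
    · have h1 := S.hA.conj_mem _ (S.A.inv_mem h) (x : G)
      convert h1 using 1
      simp only [commutatorElement_def]; group
    · have h1 := S.A.inv_mem (S.hA.conj_mem _ h (x : G)⁻¹)
      convert h1 using 1
      simp only [commutatorElement_def]; group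
  constructor
  · exact fun h x hx => (key ⟨x, hx⟩).1 (h _)
  · intro h m
    obtain ⟨x, rfl⟩ := S.cl_surjective m
    exact (key x).2 (h x x.2)

/-- The commutator in `A`. -/
def comA (x y : S.N) : S.A := ⟨⁅(x : G), (y : G)⁆, S.hNN x x.2 y y.2⟩

theorem comA_mul_right (x y z : S.N) : S.comA x (y * z) = S.comA x y * S.comA x z := Subtype.ext (by
  show ⁅(x : G), (y : G) * z⁆ = ⁅(x : G), (y : G)⁆ * ⁅(x : G), (z : G)⁆
  have h1 : (y : G) * ⁅(x : G), (z : G)⁆ * (y : G)⁻¹ = ⁅(x : G), (z : G)⁆ := by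
    rw [← S.comm_A (S.hNN x x.2 z z.2) (S.hNC y.2), mul_inv_cancel_right]
  calc ⁅(x : G), (y : G) * z⁆ = ⁅(x : G), (y : G)⁆ * ((y : G) * ⁅(x : G), (z : G)⁆ * (y : G)⁻¹) := by
        simp only [commutatorElement_def]; group
    _ = _ := by rw [h1])

theorem comA_swap (x y : S.N) : S.comA x y = (S.comA y x)⁻¹ := Subtype.ext (commutatorElement_inv (y : G) (x : G)).symm

theorem comA_mul_left (x y z : S.N) : S.comA (x * y) z = S.comA x z * S.comA y z := by
  rw [comA_swap, comA_mul_right, mul_inv, ← comA_swap, ← comA_swap]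

theorem comA_of_mem_A (x : S.N) {a : S.N} (ha : (a : G) ∈ S.A) : S.comA x a = 1 :=
  Subtype.ext (commutatorElement_eq_one_iff_mul_comm.2 (S.comm_A ha (S.hNC x.2)).symm)

/-- The pairing on the quotient, with first argument in `N`. -/
def pairN : S.N →* (S.Q →* S.A) where
  toFun x := QuotientGroup.lift _ (MonoidHom.mk' (S.comA x) (S.comA_mul_right x))
    fun _ ha => S.comA_of_mem_A x (Subgroup.mem_subgroupOf.1 ha)
  map_one' := MonoidHom.ext fun q => by
    induction q using QuotientGroup.induction_on with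
    | H y => exact Subtype.ext (commutatorElement_one_left (y : G))
  map_mul' x y := MonoidHom.ext fun q => by
    induction q using QuotientGroup.induction_on with
    | H z => exact S.comA_mul_left x y z

/-- The pairing. -/
def pairQ : S.Q →* (S.Q →* S.A) := QuotientGroup.lift _ S.pairN fun a ha => MonoidHom.ext fun q => by
  induction q using QuotientGroup.induction_on with
  | H y =>
    show S.comA a y = 1
    rw [comA_swap, S.comA_of_mem_A y (Subgroup.mem_subgroupOf.1 ha), inv_one]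

/-- The additive pairing. -/
def beta : Additive S.Q →+ Additive S.Q →+ Additive S.A :=
  AddMonoidHom.mk'
    (fun m => AddMonoidHom.mk' (fun k => Additive.ofMul (S.pairQ m.toMul k.toMul)) fun k l => by
      rw [toMul_add, map_mul, ofMul_mul])
    fun m k => AddMonoidHom.ext fun l => by
      show Additive.ofMul (S.pairQ (m + k).toMul l.toMul) = _
      rw [toMul_add, map_mul, MonoidHom.mul_apply, ofMul_mul]
      rfl

theorem beta_cl (x y : S.N) : S.beta (S.cl x) (S.cl y) = Additive.ofMul (S.comA x y) := rfl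

theorem beta_self (m : Additive S.Q) : S.beta m m = 0 := by
  obtain ⟨x, rfl⟩ := S.cl_surjective m
  rw [beta_cl, show S.comA x x = 1 from Subtype.ext (commutatorElement_self (x : G))]
  rfl

theorem beta_nondegenerate [Finite G] {m : Additive S.Q} (h : ∀ k, S.beta m k = 0) : m = 0 := by
  obtain ⟨x, rfl⟩ := S.cl_surjective m
  have hxA : (x : G) ∈ S.A := by
    by_contra hx
    obtain ⟨y, hy, hne⟩ := S.exists_comm_ne (S.hNC x.2) hx
    exact hne (congrArg Subtype.val (Additive.ofMul.injective (h (S.cl ⟨y, hy⟩))))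
  show S.cl x = S.cl 1
  rw [cl_eq_cl]
  simpa using S.A.inv_mem hxA

theorem beta_smul {g : G} (hg : g ∈ S.C) (m k : Additive S.Q) : S.beta (g • m) (g • k) = S.beta m k := by
  obtain ⟨x, rfl⟩ := S.cl_surjective m
  obtain ⟨y, rfl⟩ := S.cl_surjective k
  rw [smul_cl, smul_cl, beta_cl, beta_cl]
  congr 1
  refine Subtype.ext ?_
  show ⁅g * (x : G) * g⁻¹, g * (y : G) * g⁻¹⁆ = ⁅(x : G), (y : G)⁆
  rw [← conjugate_commutatorElement, ← S.comm_A (S.hNN x x.2 y y.2) hg, mul_inv_cancel_right]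

variable [Finite G] {R : Type v} [CommRing R] [IsDomain R] (χ : S.A →* R) (hχ : Function.Injective χ)
include χ hχ

/-- Semisimplicity. -/
theorem semisimpleQ : Semisimple G (Additive S.Q) := by
  intro U hU
  let U' : Subgroup G :=
    { carrier := {x | ∃ h : x ∈ S.N, S.cl ⟨x, h⟩ ∈ U}
      one_mem' := ⟨S.N.one_mem, U.zero_mem⟩
      mul_mem' := fun {a b} ⟨ha, ha'⟩ ⟨hb, hb'⟩ => ⟨S.N.mul_mem ha hb, U.add_mem ha' hb'⟩
      inv_mem' := fun {a} ⟨ha, ha'⟩ => ⟨S.N.inv_mem ha, U.neg_mem ha'⟩ }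
  haveI : U'.Normal := ⟨fun x ⟨hx, hxU⟩ g => ⟨S.hN.conj_mem x hx g, hU g _ hxU⟩⟩
  have hAU : S.A ≤ U' := fun a ha => ⟨S.hAN ha, by
    rw [show S.cl ⟨a, S.hAN ha⟩ = S.cl 1 from S.cl_eq_cl.2 (by simpa using S.A.inv_mem ha)]
    exact U.zero_mem⟩
  obtain ⟨W, hWn, hAW, hWN, hmeet, hjoin⟩ := S.complement χ hχ U' hAU (fun x hx => hx.1)
  let W' : AddSubgroup (Additive S.Q) :=
    { carrier := {m | ∃ x : S.N, (x : G) ∈ W ∧ S.cl x = m}
      zero_mem' := ⟨1, W.one_mem, rfl⟩
      add_mem' := fun {a b} ⟨x, hx, hx'⟩ ⟨y, hy, hy'⟩ => ⟨x * y, W.mul_mem hx hy, by rw [cl_mul, hx', hy']⟩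
      neg_mem' := fun {a} ⟨x, hx, hx'⟩ => ⟨x⁻¹, W.inv_mem hx, by rw [← hx']; rfl⟩ }
  refine ⟨W', ?_, ?_, ?_⟩
  · rintro g m ⟨x, hx, rfl⟩
    exact ⟨S.cjN g x, hWn.conj_mem x hx g, rfl⟩
  · rw [AddSubgroup.eq_bot_iff_forall]
    intro m hm
    obtain ⟨hmU, x, hx, rfl⟩ := AddSubgroup.mem_inf.1 hm
    have hxA : (x : G) ∈ S.A := hmeet ▸ Subgroup.mem_inf.2 ⟨⟨x.2, hmU⟩, hx⟩
    show S.cl x = S.cl 1
    rw [cl_eq_cl]
    simpa using S.A.inv_mem hxA
  · rw [AddSubgroup.eq_top_iff']
    intro m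
    obtain ⟨x, rfl⟩ := S.cl_surjective m
    have hx : (x : G) ∈ W ⊔ U' := by rw [sup_comm, hjoin]; exact x.2
    obtain ⟨w, hw, u, hu, hwu⟩ := Subgroup.mem_sup_of_normal_right.1 hx
    refine AddSubgroup.mem_sup.2 ⟨S.cl ⟨u, hu.1⟩, hu.2, S.cl ⟨w, hWN hw⟩, ⟨_, hw, rfl⟩, ?_⟩
    rw [add_comm, ← cl_mul]
    exact congrArg S.cl (Subtype.ext hwu)

end Sect

end CfsgLib.BaseTwo
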