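import Cfsg.Agent.Lib.FgsC.BaseTwo.Decomp
import Cfsg.Agent.Lib.FgsC.BaseTwo.Structure

/-!
# The field of a maximal abelian normal subgroup

Fixed spaces, independence of coset representatives of `N / A`, and the field automorphisms.
-/

set_option autoImplicit false

universe u

namespace CfsgLib.BaseTwo

open scoped commutatorElement

variable {A : Type u} [Group A] {V : Type u} [AddCommGroup V] [DistribMulAction A V]

/-- The action as a map to endomorphisms. -/
abbrev rho : A →* AddMonoid.End V := DistribMulAction.toAddMonoidEnd A V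

theorem rho_apply (a : A) (v : V) : (rho a : AddMonoid.End V) v = a • v := rfl

theorem rho_injective [FaithfulSMul A V] : Function.Injective (rho : A →* AddMonoid.End V) := fun _ _ h =>
  FaithfulSMul.eq_of_smul_eq_smul fun v : V => DFunLike.congr_fun h v

/-- Conjugation as a ring endomorphism. -/
def cjHom (a : A) : AddMonoid.End V →+* AddMonoid.End V where
  toFun := cjEnd a
  map_one' := by
    refine DFunLike.ext _ _ fun v => ?_
    show a • a⁻¹ • v = v
    exact smul_inv_smul a v
  map_mul' := cjEnd_mul a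
  map_zero' := cjEnd_zero a
  map_add' f g := by
    refine DFunLike.ext _ _ fun v => ?_
    show a • (f (a⁻¹ • v) + g (a⁻¹ • v)) = a • f (a⁻¹ • v) + a • g (a⁻¹ • v)
    exact smul_add a _ _

theorem cjHom_rho (a b : A) : cjHom (V := V) a (rho b) = rho (a * b * a⁻¹) := by
  refine DFunLike.ext _ _ fun v => ?_
  show a • b • a⁻¹ • v = (a * b * a⁻¹) • v
  rw [mul_smul, mul_smul]

theorem cjHom_eq (a : A) (f : AddMonoid.End V) : cjHom a f = rho a * f * rho a⁻¹ := rfl

variable (S : Sect A)

/-- The ring generated by `A`. -/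
def ring : Subring (AddMonoid.End V) := Subring.closure ((rho : A →* AddMonoid.End V) '' (S.A : Set A))

theorem rho_mem {a : A} (ha : a ∈ S.A) : (rho a : AddMonoid.End V) ∈ ring S :=
  Subring.subset_closure ⟨a, ha, rfl⟩

theorem commute_ring {g : A} (hg : g ∈ S.C) {x : AddMonoid.End V} (hx : x ∈ ring S) :
    rho g * x = x * rho g := by
  induction hx using Subring.closure_induction with
  | mem y hy =>
    obtain ⟨a, ha, rfl⟩ := hy
    rw [← map_mul, ← map_mul, S.comm_A ha hg]
  | zero => rw [mul_zero, zero_mul]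
  | one => rw [mul_one, one_mul]
  | add y z _ _ hy hz => rw [mul_add, add_mul, hy, hz]
  | neg y _ hy => rw [mul_neg, neg_mul, hy]
  | mul y z _ _ hy hz => rw [← mul_assoc, hy, mul_assoc, hz, ← mul_assoc]

theorem ring_comm {x y : AddMonoid.End V} (hx : x ∈ ring S) (hy : y ∈ ring S) : x * y = y * x := by
  induction hx using Subring.closure_induction with
  | mem z hz =>
    obtain ⟨a, ha, rfl⟩ := hz
    exact commute_ring S (S.A_le_C ha) hy
  | zero => rw [mul_zero, zero_mul]
  | one => rw [mul_one, one_mul]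
  | add a b _ _ ha hb => rw [mul_add, add_mul, ha, hb]
  | neg a _ ha => rw [mul_neg, neg_mul, ha]
  | mul a b _ _ ha hb => rw [mul_assoc, hb, ← mul_assoc, ha, mul_assoc]

instance ringCommRing : CommRing (ring (V := V) S) :=
  { (inferInstance : Ring (ring (V := V) S)) with mul_comm := fun x y => Subtype.ext (ring_comm S x.2 y.2) }

theorem ring_normalized (a : A) {x : AddMonoid.End V} (hx : x ∈ ring S) : cjEnd a x ∈ ring S := by
  have : ring (V := V) S ≤ (ring (V := V) S).comap (cjHom (V := V) a) := Subring.closure_le.2 fun y hy => by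
    obtain ⟨b, hb, rfl⟩ := hy
    rw [SetLike.mem_coe, Subring.mem_comap, cjHom_rho]
    exact rho_mem S (S.hA.conj_mem b hb a)
  exact this hx

theorem isField_ring [Nontrivial V] (hfld : ∀ x ∈ ring (V := V) S, x ≠ 0 → ∃ y ∈ ring S, x * y = 1) :
    IsField (ring (V := V) S) := by
  refine ⟨⟨0, 1, fun h => ?_⟩, fun x y => Subtype.ext (ring_comm S x.2 y.2), fun {x} hx => ?_⟩
  · obtain ⟨v, hv⟩ := exists_ne (0 : V)
    exact hv (DFunLike.congr_fun (congrArg Subtype.val h) v).symm
  · obtain ⟨y, hy, hxy⟩ := hfld x x.2 fun h => hx (Subtype.ext h)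
    exact ⟨⟨y, hy⟩, Subtype.ext hxy⟩

/-- Fixed vectors. -/
def fixA (g : A) : AddSubgroup V where
  carrier := {v | g • v = v}
  zero_mem' := smul_zero g
  add_mem' {a b} ha hb := by show g • (a + b) = a + b; rw [smul_add, ha, hb]
  neg_mem' {a} ha := by show g • -a = -a; rw [smul_neg, ha]

theorem fix_A [FaithfulSMul A V] (hfld : ∀ x ∈ ring (V := V) S, x ≠ 0 → ∃ y ∈ ring S, x * y = 1)
    {a : A} (ha : a ∈ S.A) (ha1 : a ≠ 1) {v : V} (hv : a • v = v) : v = 0 := by
  obtain ⟨y, hy, hxy⟩ := hfld ((rho a : AddMonoid.End V) - 1) ((ring (V := V) S).sub_mem (rho_mem (V := V) S ha) (ring (V := V) S).one_mem)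
    (fun h => ha1 (rho_injective (V := V) ((sub_eq_zero.1 h).trans (map_one _).symm)))
  rw [ring_comm S ((ring (V := V) S).sub_mem (rho_mem (V := V) S ha) (ring (V := V) S).one_mem) hy] at hxy
  have h1 : y (a • v - v) = v := DFunLike.congr_fun hxy v
  rw [hv, sub_self, map_zero] at h1
  exact h1.symm

/-- Commutators double the codimension. -/
theorem fix_sq_le [Finite V] (g x : A) :
    Nat.card (fixA (V := V) g) ^ 2 ≤ Nat.card V * Nat.card (fixA (V := V) ⁅g, x⁆) := by
  classical
  let ψ : fixA (V := V) g × fixA (V := V) g →+ V := AddMonoidHom.mk' (fun p => (p.1 : V) - x • (p.2 : V)) fun p q => by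
    simp only [Prod.fst_add, Prod.snd_add, AddSubgroup.coe_add, smul_add]
    abel
  have hker : Nat.card ψ.ker ≤ Nat.card (fixA (V := V) ⁅g, x⁆) := by
    refine Nat.card_le_card_of_injective (fun p => ⟨(p.1.1 : V), ?_⟩) fun p q h => ?_
    · have hp : (p.1.1 : V) = x • (p.1.2 : V) := sub_eq_zero.1 (AddMonoidHom.mem_ker.1 p.2)
      have h1 : g • (p.1.2 : V) = p.1.2 := p.1.2.2
      have h2 : g • (p.1.1 : V) = p.1.1 := p.1.1.2
      show ⁅g, x⁆ • (p.1.1 : V) = p.1.1
      rw [commutatorElement_def]
      conv_lhs => rw [hp, mul_smul, mul_smul, mul_smul, inv_smul_smul, inv_smul_eq_iff.2 h1.symm, ← hp, h2]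
    · have e : (p.1.1 : V) = q.1.1 := congrArg (fun y : fixA (V := V) ⁅g, x⁆ => (y : V)) h
      refine Subtype.ext (Prod.ext (Subtype.ext e) (Subtype.ext ((smul_left_cancel_iff x).1 ?_)))
      rw [← sub_eq_zero.1 (AddMonoidHom.mem_ker.1 p.2), ← sub_eq_zero.1 (AddMonoidHom.mem_ker.1 q.2)]
      exact e
  have h1 := AddSubgroup.card_mul_index ψ.ker
  rw [AddSubgroup.index_ker, Nat.card_prod] at h1
  rw [pow_two, ← h1, mul_comm (Nat.card V)]
  exact Nat.mul_le_mul hker (Nat.card_le_card_of_injective Subtype.val Subtype.val_injective)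

variable [Finite A] [Finite V] [FaithfulSMul A V]

/-- The coset representatives of `N / A` are independent over the field. -/
theorem card_sect_le [Nontrivial V] [Module.Finite (ring (V := V) S) V] [Module.Free (ring (V := V) S) V]
    (hfld : ∀ x ∈ ring (V := V) S, x ≠ 0 → ∃ y ∈ ring S, x * y = 1) :
    S.A.relIndex S.N ≤ Module.finrank (ring (V := V) S) V ^ 2 := by
  classical
  haveI : Finite (AddMonoid.End V) :=
    Finite.of_injective (fun f : AddMonoid.End V => (f : V → V)) DFunLike.coe_injective
  let R := ring (V := V) S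
  set Q := S.N ⧸ S.A.subgroupOf S.N
  letI := Fintype.ofFinite Q
  let x : Q → A := fun q => (q.out : S.N)
  have hxN : ∀ q, x q ∈ S.N := fun q => (q.out : S.N).2
  let Φ : (Q → ring (V := V) S) → AddMonoid.End V := fun r => ∑ q, (r q : AddMonoid.End V) * rho (x q)
  have hζ : ∀ (q : Q) (y : A), y ∈ S.N → (rho ⁅y, x q⁆ : AddMonoid.End V) ∈ ring (V := V) S :=
    fun q y hy => rho_mem S (S.hNN y hy _ (hxN q))
  -- a minimal dependence
  have hind : ∀ k (r : Q → ring (V := V) S), (Finset.univ.filter fun q => r q ≠ 0).card ≤ k → Φ r = 0 → r = 0 := by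
    intro k
    induction k with
    | zero =>
      intro r hr _
      funext q
      by_contra hq
      exact absurd hr (Nat.not_le.2 (Finset.card_pos.2 ⟨q, Finset.mem_filter.2 ⟨Finset.mem_univ q, hq⟩⟩))
    | succ k ih =>
      intro r hr hΦ
      by_contra hne
      obtain ⟨q₀, hq₀⟩ := Function.ne_iff.1 hne
      have hsupp : ∀ q, r q ≠ 0 → q = q₀ := by
        intro q hq
        have hall : ∀ y ∈ S.N, ⁅y, x q⁆ = ⁅y, x q₀⁆ := by
          intro y hy
          let r' : Q → ring (V := V) S := fun p => r p * ⟨rho ⁅y, x p⁆, hζ p y hy⟩ - ⟨rho ⁅y, x q₀⁆, hζ q₀ y hy⟩ * r p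
          have hr'0 : r' = 0 := by
            refine ih r' ?_ ?_
            · have hsub : (Finset.univ.filter fun p => r' p ≠ 0) ⊆
                  (Finset.univ.filter fun p => r p ≠ 0).erase q₀ := by
                intro p hp
                simp only [Finset.mem_filter, Finset.mem_univ, true_and, Finset.mem_erase] at hp ⊢
                refine ⟨fun h => hp ?_, fun h => hp ?_⟩
                · subst h; simp only [r']; rw [mul_comm, sub_self]
                · simp only [r', h, zero_mul, mul_zero, sub_self]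
              have := Finset.card_le_card hsub
              rw [Finset.card_erase_of_mem (Finset.mem_filter.2 ⟨Finset.mem_univ q₀, hq₀⟩)] at this
              omega
            · have h1 : cjHom y (Φ r) = ∑ p, ((r p * ⟨rho ⁅y, x p⁆, hζ p y hy⟩ : ring (V := V) S) : AddMonoid.End V) * rho (x p) := by
                simp only [Φ, map_sum, map_mul]
                refine Finset.sum_congr rfl fun p _ => ?_
                rw [cjHom_rho, cjHom_eq, commute_ring S (S.hNC hy) (r p).2, Subring.coe_mul,
                  mul_assoc ((r p : ring (V := V) S) : AddMonoid.End V) (rho y) (rho y⁻¹), ← map_mul, mul_inv_cancel, map_one, mul_one,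
                  mul_assoc ((r p : ring (V := V) S) : AddMonoid.End V) (rho ⁅y, x p⁆) (rho (x p)), ← map_mul]
                congr 2
                simp only [commutatorElement_def]; group
              rw [hΦ, map_zero] at h1
              simp only [Φ, r', AddSubgroupClass.coe_sub, sub_mul, Finset.sum_sub_distrib, ← h1, Subring.coe_mul,
                mul_assoc, ← Finset.mul_sum]
              simp only [Φ] at hΦ
              rw [hΦ, mul_zero]
              simp only [Subring.coe_mul, mul_assoc] at h1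
              rw [← h1, sub_zero]
          have h2 := congrFun hr'0 q
          simp only [r', Pi.zero_apply] at h2
          rw [mul_comm (r q), ← sub_mul] at h2
          have h3 : (⟨rho ⁅y, x q⁆, hζ q y hy⟩ : ring (V := V) S) = ⟨rho ⁅y, x q₀⁆, hζ q₀ y hy⟩ := by
            rcases eq_or_ne ((⟨rho ⁅y, x q⁆, hζ q y hy⟩ : ring (V := V) S) - ⟨rho ⁅y, x q₀⁆, hζ q₀ y hy⟩) 0 with h | h
            · exact sub_eq_zero.1 h
            · obtain ⟨z, hz, hz'⟩ := hfld _ ((_ - _ : ring (V := V) S)).2 fun e => h (Subtype.ext e)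
              refine absurd ?_ hq
              have h4 := congrArg (fun w : ring (V := V) S => (⟨z, hz⟩ : ring (V := V) S) * w) h2
              simp only [mul_zero, ← mul_assoc] at h4
              rwa [mul_comm (⟨z, hz⟩ : ring (V := V) S), show ((⟨rho ⁅y, x q⁆, hζ q y hy⟩ : ring (V := V) S) - ⟨rho ⁅y, x q₀⁆, hζ q₀ y hy⟩) *
                (⟨z, hz⟩ : ring (V := V) S) = 1 from Subtype.ext hz', one_mul] at h4
          exact rho_injective (V := V) (congrArg Subtype.val h3)
        have hd : (x q₀)⁻¹ * x q ∈ S.A := by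
          refine S.hcent (Subgroup.mem_inf.2 ⟨S.C.mul_mem (S.C.inv_mem (S.hNC (hxN q₀))) (S.hNC (hxN q)),
            Subgroup.mem_centralizer_iff.2 fun y hy => ?_⟩)
          have h5 := hall y⁻¹ (S.N.inv_mem hy)
          simp only [commutatorElement_def, inv_inv, mul_assoc, mul_right_inj] at h5
          calc y * ((x q₀)⁻¹ * x q) = (x q₀)⁻¹ * (x q₀ * (y * (x q₀)⁻¹)) * x q := by group
            _ = (x q₀)⁻¹ * (x q * (y * (x q)⁻¹)) * x q := by rw [h5]
            _ = (x q₀)⁻¹ * x q * y := by group
        rw [← QuotientGroup.out_eq' q, ← QuotientGroup.out_eq' q₀]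
        exact (QuotientGroup.eq.2 (Subgroup.mem_subgroupOf.2 hd)).symm
      have hsingle : Φ r = (r q₀ : AddMonoid.End V) * rho (x q₀) := by
        simp only [Φ]
        refine Finset.sum_eq_single q₀ (fun p _ hp => ?_) (fun h => absurd (Finset.mem_univ q₀) h)
        rw [show r p = 0 from by_contra fun h => hp (hsupp p h), Subring.coe_zero, zero_mul]
      rw [hsingle] at hΦ
      refine hq₀ (Subtype.ext ?_)
      have h6 := congrArg (fun w => w * (rho (x q₀)⁻¹ : AddMonoid.End V)) hΦ
      rw [mul_assoc, ← map_mul, mul_inv_cancel, map_one, mul_one, zero_mul] at h6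
      exact h6
  -- endomorphisms over the field
  have hcomm : ∀ (r : Q → ring (V := V) S) (s : ring (V := V) S) (v : V), Φ r (s • v) = s • Φ r v := by
    intro r s v
    have h : Φ r * (s : AddMonoid.End V) = (s : AddMonoid.End V) * Φ r := by
      simp only [Φ, Finset.sum_mul, Finset.mul_sum]
      refine Finset.sum_congr rfl fun p _ => ?_
      rw [mul_assoc, commute_ring S (S.hNC (hxN p)) s.2, ← mul_assoc, ring_comm S (r p).2 s.2, mul_assoc]
    exact DFunLike.congr_fun h v
  let Ψ : (Q → ring (V := V) S) → (V →ₗ[ring (V := V) S] V) := fun r =>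
    { toFun := fun v => Φ r v, map_add' := fun v w => map_add _ v w, map_smul' := fun s v => hcomm r s v }
  have hΨ : Function.Injective Ψ := fun r r' h => by
    refine sub_eq_zero.1 (hind _ _ le_rfl ?_)
    have hlin : Φ (r - r') = Φ r - Φ r' := by
      simp only [Φ, Pi.sub_apply, AddSubgroupClass.coe_sub, sub_mul, Finset.sum_sub_distrib]
    rw [hlin, sub_eq_zero]
    exact DFunLike.ext _ _ fun v => LinearMap.congr_fun h v
  letI : Field (ring (V := V) S) := (isField_ring S hfld).toField
  haveI : Finite (V →ₗ[ring (V := V) S] V) := Finite.of_injective (fun f => (f : V → V)) DFunLike.coe_injective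
  have h7 := Nat.card_le_card_of_injective Ψ hΨ
  rw [Nat.card_fun, Module.natCard_eq_pow_finrank (K := ring (V := V) S) (V := V →ₗ[ring (V := V) S] V),
    Module.finrank_linearMap] at h7
  have h8 : 1 < Nat.card (ring (V := V) S) := Finite.one_lt_card
  rw [pow_two]
  exact (Nat.pow_le_pow_iff_right h8).1 h7

/-- The outer part acts by field automorphisms. -/
theorem two_pow_index_le (hfield : IsField (ring (V := V) S)) :
    2 ^ S.C.index ≤ Nat.card (ring (V := V) S) := by
  classical
  haveI : Finite (AddMonoid.End V) :=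
    Finite.of_injective (fun f : AddMonoid.End V => (f : V → V)) DFunLike.coe_injective
  letI : Field (ring (V := V) S) := hfield.toField
  obtain ⟨p, hchar⟩ := CharP.exists (ring (V := V) S)
  haveI := hchar
  haveI : Fact p.Prime := ⟨CharP.char_is_prime (ring (V := V) S) p⟩
  letI : Algebra (ZMod p) (ring (V := V) S) := ZMod.algebra (ring (V := V) S) p
  let σ : A → (ring (V := V) S ≃+* ring (V := V) S) := fun g =>
    { toFun := fun x => ⟨cjEnd g x, ring_normalized S g x.2⟩
      invFun := fun x => ⟨cjEnd g⁻¹ x, ring_normalized S g⁻¹ x.2⟩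
      left_inv := fun x => Subtype.ext (by show cjEnd g⁻¹ (cjEnd g _) = _; rw [cjEnd_cjEnd, inv_mul_cancel, cjEnd_one])
      right_inv := fun x => Subtype.ext (by show cjEnd g (cjEnd g⁻¹ _) = _; rw [cjEnd_cjEnd, mul_inv_cancel, cjEnd_one])
      map_mul' := fun x y => Subtype.ext (cjEnd_mul g x.1 y.1)
      map_add' := fun x y => Subtype.ext (map_add (cjHom g) x.1 y.1) }
  let τ : A ⧸ S.C → (ring (V := V) S ≃ₐ[ZMod p] ring (V := V) S) := fun c =>
    AlgEquiv.ofRingEquiv (f := σ c.out) fun x =>
      RingHom.congr_fun (Subsingleton.elim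
        ((σ c.out).toRingHom.comp (algebraMap (ZMod p) (ring (V := V) S))) (algebraMap (ZMod p) (ring (V := V) S))) x
  have hτ : Function.Injective τ := by
    intro c d h
    rw [← QuotientGroup.out_eq' c, ← QuotientGroup.out_eq' d, QuotientGroup.eq]
    refine Subgroup.mem_centralizer_iff.2 fun a ha => ?_
    have h1 : cjEnd c.out (rho a : AddMonoid.End V) = cjEnd d.out (rho a) :=
      congrArg Subtype.val (AlgEquiv.congr_fun h ⟨rho a, rho_mem S ha⟩)
    have h2 : c.out * a * c.out⁻¹ = d.out * a * d.out⁻¹ := rho_injective (V := V) (by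
      rw [← cjHom_rho, ← cjHom_rho]; exact h1)
    calc a * (c.out⁻¹ * d.out) = c.out⁻¹ * (c.out * a * c.out⁻¹) * d.out := by group
      _ = c.out⁻¹ * (d.out * a * d.out⁻¹) * d.out := by rw [h2]
      _ = c.out⁻¹ * d.out * a := by group
  haveI : Module.Finite (ZMod p) (ring (V := V) S) := Module.Finite.of_finite
  have h3 : S.C.index ≤ Module.finrank (ZMod p) (ring (V := V) S) := by
    rw [Subgroup.index_eq_card]
    refine (Nat.card_le_card_of_injective τ hτ).trans ?_
    rw [Nat.card_eq_fintype_card]
    exact AlgEquiv.card_le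
  calc 2 ^ S.C.index ≤ p ^ S.C.index := Nat.pow_le_pow_left (Fact.out : p.Prime).two_le _
    _ ≤ p ^ Module.finrank (ZMod p) (ring (V := V) S) := Nat.pow_le_pow_right (Fact.out : p.Prime).pos h3
    _ = Nat.card (ring (V := V) S) := by rw [Module.natCard_eq_pow_finrank (K := ZMod p) (V := ring (V := V) S), Nat.card_zmod]

end CfsgLib.BaseTwo
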