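import Mathlib

/-!
# The inequalities of the primitive case
-/

set_option autoImplicit false

namespace CfsgLib.BaseTwo

theorem pow_six_bound : ∀ e, 25 ≤ e → e ^ 12 ≤ 100 * 6 ^ (e - 2) := by
  intro e he
  induction e, he using Nat.le_induction with
  | base => norm_num
  | succ e he ih =>
    have h1 : (e + 1) * 25 ≤ 26 * e := by omega
    have h2 : (e + 1) ^ 12 * 25 ^ 12 ≤ 6 * 25 ^ 12 * e ^ 12 := by
      rw [← mul_pow]
      calc ((e + 1) * 25) ^ 12 ≤ (26 * e) ^ 12 := Nat.pow_le_pow_left h1 12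
        _ = 26 ^ 12 * e ^ 12 := mul_pow _ _ _
        _ ≤ 6 * 25 ^ 12 * e ^ 12 := Nat.mul_le_mul_right _ (by norm_num)
    have h3 : (e + 1) ^ 12 ≤ 6 * e ^ 12 :=
      Nat.le_of_mul_le_mul_right (h2.trans_eq (by ring)) (by norm_num : 0 < 25 ^ 12)
    rw [show e + 1 - 2 = (e - 2) + 1 by omega, pow_succ]
    calc (e + 1) ^ 12 ≤ 6 * e ^ 12 := h3
      _ ≤ 6 * (100 * 6 ^ (e - 2)) := Nat.mul_le_mul_left _ ih
      _ = _ := by ring

theorem pow_four_bound : ∀ e, 81 ≤ e → e ^ 12 ≤ 100 * 4 ^ (e - 2) := by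
  intro e he
  induction e, he using Nat.le_induction with
  | base => norm_num
  | succ e he ih =>
    have h1 : (e + 1) * 81 ≤ 82 * e := by omega
    have h2 : (e + 1) ^ 12 * 81 ^ 12 ≤ 4 * 81 ^ 12 * e ^ 12 := by
      rw [← mul_pow]
      calc ((e + 1) * 81) ^ 12 ≤ (82 * e) ^ 12 := Nat.pow_le_pow_left h1 12
        _ = 82 ^ 12 * e ^ 12 := mul_pow _ _ _
        _ ≤ 4 * 81 ^ 12 * e ^ 12 := Nat.mul_le_mul_right _ (by norm_num)
    have h3 : (e + 1) ^ 12 ≤ 4 * e ^ 12 :=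
      Nat.le_of_mul_le_mul_right (h2.trans_eq (by ring)) (by norm_num : 0 < 81 ^ 12)
    rw [show e + 1 - 2 = (e - 2) + 1 by omega, pow_succ]
    calc (e + 1) ^ 12 ≤ 4 * e ^ 12 := h3
      _ ≤ 4 * (100 * 4 ^ (e - 2)) := Nat.mul_le_mul_left _ ih
      _ = _ := by ring

theorem sq_le_four_mul : ∀ e, 3 ≤ e → e ^ 2 ≤ 4 * 3 ^ (e - 2) := by
  intro e he
  induction e, he using Nat.le_induction with
  | base => norm_num
  | succ e he ih =>
    rw [show e + 1 - 2 = (e - 2) + 1 by omega, pow_succ 3]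
    nlinarith

/-- The counting criterion. -/
theorem criterion {a f e s q n : ℕ} (ha : 0 < a) (haq : a < q) (hf : 2 ^ f ≤ q) (hfpos : 0 < f)
    (he3 : 3 ≤ e) (heodd : Odd e) (hen : e ≤ n) (hspos : 0 < s) (hsodd : Odd s) (hqpp : IsPrimePow q) (hadvd : a ∣ q - 1)
    (hpa : ∀ p : ℕ, p.Prime → p ∣ e → p ∣ a)
    (hprime : e.Prime → s ∣ e ^ 2 - 1) (hnine : e = 9 → s ∣ 5)
    (hgen : 6 * s ≤ e ^ 2 * (e ^ 2 - 1)) (r : ℕ) (hr : r = if e = 9 then 5 else 3) :
    (r - 1) * (a * f * e ^ 2 * s) * q ^ n + 2 * (a * e ^ 2 * (s - 1)) * Nat.sqrt ((q ^ n) ^ 3) <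
      2 * (r - 1) * (q ^ n) ^ 2 := by
  set V := q ^ n with hVdef
  have hr1 : 0 < r - 1 := by rw [hr]; split <;> norm_num
  have hq0 : 0 < q := by omega
  have hqV : q ^ e ≤ V := Nat.pow_le_pow_right hq0 hen
  have hVpos : 0 < V := pow_pos hq0 n
  have hf2 : 2 * f ≤ q := by
    refine le_trans ?_ hf
    clear hf
    induction f with
    | zero => simp
    | succ k ih =>
      rcases k.eq_zero_or_pos with rfl | hk
      · norm_num
      · have := ih hk
        rw [pow_succ]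
        have h1 : 2 ≤ 2 ^ k := by
          calc 2 = 2 ^ 1 := rfl
            _ ≤ 2 ^ k := Nat.pow_le_pow_right (by norm_num) hk
        omega
  obtain ⟨p, hp, hpe⟩ := Nat.exists_prime_and_dvd (show e ≠ 1 by omega)
  have hp3 : 3 ≤ p := by
    have := hp.two_le
    have : p ≠ 2 := fun h => by
      obtain ⟨k, hk⟩ := heodd.of_dvd_nat hpe
      omega
    omega
  have hq4 : 4 ≤ q := by
    have := Nat.le_of_dvd ha (hpa p hp hpe)
    omega
  have hqe2 : q ^ e = q ^ 2 * q ^ (e - 2) := by rw [← pow_add]; congr 1; omega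
  -- the two sufficient conditions
  by_cases hs1 : s = 1
  · subst hs1
    simp only [Nat.sub_self, mul_zero, zero_mul, add_zero, mul_one]
    have h2 : a * f * e ^ 2 < 2 * V := by
      have h3 : 3 ^ (e - 2) ≤ q ^ (e - 2) := Nat.pow_le_pow_left (by omega) _
      have h4 := sq_le_four_mul e he3
      have h5 : 2 * (a * f * e ^ 2) < q * q * e ^ 2 := by
        calc 2 * (a * f * e ^ 2) = a * (2 * f) * e ^ 2 := by ring
          _ ≤ a * q * e ^ 2 := Nat.mul_le_mul_right _ (Nat.mul_le_mul_left _ hf2)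
          _ < q * q * e ^ 2 := Nat.mul_lt_mul_of_pos_right (Nat.mul_lt_mul_of_pos_right haq hq0) (by positivity)
      have h6 : q * q * e ^ 2 ≤ q * q * (4 * q ^ (e - 2)) := Nat.mul_le_mul_left _ (h4.trans (by omega))
      have h7 : q * q * (4 * q ^ (e - 2)) = 4 * q ^ e := by rw [hqe2]; ring
      omega
    have h3 : (r - 1) * (a * f * e ^ 2) < (r - 1) * (2 * V) := Nat.mul_lt_mul_of_pos_left h2 hr1
    calc (r - 1) * (a * f * e ^ 2) * V < (r - 1) * (2 * V) * V := Nat.mul_lt_mul_of_pos_right h3 hVpos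
      _ = _ := by ring
  have hs3 : 3 ≤ s := by
    obtain ⟨k, hk⟩ := hsodd
    omega
  suffices hAB : 2 * e ^ 2 * s ≤ q ^ (e - 2) ∧
      64 * (a * e ^ 2 * (s - 1)) ^ 2 < 49 * (r - 1) ^ 2 * q ^ e by
    obtain ⟨hA, hB⟩ := hAB
    set c := a * e ^ 2 * (s - 1)
    have hA' : 4 * (a * f * e ^ 2 * s) ≤ V := by
      calc 4 * (a * f * e ^ 2 * s) = a * (2 * f) * (2 * e ^ 2 * s) := by ring
        _ ≤ q * q * q ^ (e - 2) := Nat.mul_le_mul (Nat.mul_le_mul haq.le hf2) hA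
        _ = q ^ e := by rw [hqe2]; ring
        _ ≤ V := hqV
    have hT := Nat.sqrt_le' (V ^ 3)
    set T := Nat.sqrt (V ^ 3)
    have hsq : (8 * c * T) ^ 2 < (7 * (r - 1) * V ^ 2) ^ 2 := by
      calc (8 * c * T) ^ 2 = 64 * c ^ 2 * T ^ 2 := by ring
        _ ≤ 64 * c ^ 2 * V ^ 3 := Nat.mul_le_mul_left _ hT
        _ < 49 * (r - 1) ^ 2 * q ^ e * V ^ 3 := Nat.mul_lt_mul_of_pos_right hB (by positivity)
        _ ≤ 49 * (r - 1) ^ 2 * V * V ^ 3 := Nat.mul_le_mul_right _ (Nat.mul_le_mul_left _ hqV)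
        _ = (7 * (r - 1) * V ^ 2) ^ 2 := by ring
    have h8 := lt_of_pow_lt_pow_left₀ 2 (Nat.zero_le _) hsq
    have h9 : 4 * ((r - 1) * (a * f * e ^ 2 * s) * V) ≤ (r - 1) * V ^ 2 := by
      calc 4 * ((r - 1) * (a * f * e ^ 2 * s) * V) = (r - 1) * (4 * (a * f * e ^ 2 * s)) * V := by ring
        _ ≤ (r - 1) * V * V := Nat.mul_le_mul_right _ (Nat.mul_le_mul_left _ hA')
        _ = _ := by ring
    have e1 : 4 * (2 * c * T) = 8 * c * T := by ring
    have e2 : 4 * (2 * (r - 1) * V ^ 2) = (r - 1) * V ^ 2 + 7 * (r - 1) * V ^ 2 := by ring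
    omega
  have haq1 : a ≤ q - 1 := by omega
  have hrest : ∀ c : ℕ, 64 * c ^ 2 * q ^ 2 < 49 * (r - 1) ^ 2 * q ^ e → e ^ 2 * (s - 1) ≤ c →
      64 * (a * e ^ 2 * (s - 1)) ^ 2 < 49 * (r - 1) ^ 2 * q ^ e := fun c hc hle => by
    refine lt_of_le_of_lt ?_ hc
    calc 64 * (a * e ^ 2 * (s - 1)) ^ 2 = 64 * (a * (e ^ 2 * (s - 1))) ^ 2 := by ring
      _ ≤ 64 * (q * c) ^ 2 := Nat.mul_le_mul_left _ (Nat.pow_le_pow_left (Nat.mul_le_mul haq.le hle) 2)
      _ = 64 * c ^ 2 * q ^ 2 := by ring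
  have hlarge : ∀ c : ℕ, 64 * c ^ 2 < 49 * (r - 1) ^ 2 * q ^ (e - 2) →
      64 * c ^ 2 * q ^ 2 < 49 * (r - 1) ^ 2 * q ^ e := fun c hc => by
    rw [hqe2]
    calc 64 * c ^ 2 * q ^ 2 < 49 * (r - 1) ^ 2 * q ^ (e - 2) * q ^ 2 :=
          Nat.mul_lt_mul_of_pos_right hc (by positivity)
      _ = _ := by ring
  by_cases h9 : e = 9
  · subst h9
    have hs5 : s = 5 := ((Nat.dvd_prime Nat.prime_five).1 (hnine rfl)).resolve_left hs1
    subst hs5
    simp only [if_true] at hr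
    subst hr
    have h7 : 4 ^ 7 ≤ q ^ 7 := Nat.pow_le_pow_left hq4 7
    refine ⟨?_, hrest 324 (hlarge 324 ?_) (by norm_num)⟩
    · show 2 * 9 ^ 2 * 5 ≤ q ^ 7
      norm_num at h7 ⊢; omega
    · show 64 * 324 ^ 2 < 49 * (5 - 1) ^ 2 * q ^ 7
      norm_num at h7 ⊢; omega
  rw [if_neg h9] at hr
  subst hr
  by_cases hep : e.Prime
  · have hdvd := hprime hep
    have hpeq : p ∣ a := hpa p hp hpe
    have hqe1 : e + 1 ≤ q := by
      have := Nat.le_of_dvd ha (hpa e hep dvd_rfl)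
      omega
    rcases Nat.lt_or_ge e 11 with h11 | h11
    · interval_cases e
      · -- three
        have : s ∣ 2 ^ 3 := hdvd
        obtain ⟨i, -, hi⟩ := (Nat.dvd_prime_pow Nat.prime_two).1 this
        rcases i.eq_zero_or_pos with rfl | hi0
        · exact absurd hi hs1
        · exact absurd (hi ▸ hsodd) (Nat.not_odd_iff_even.2 ((Nat.even_pow' hi0.ne').2 even_two))
      · exact absurd hep (by norm_num)
      · -- five
        have hs : s = 3 := by
          have : s ∣ 24 := hdvd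
          have hle := Nat.le_of_dvd (by norm_num) this
          obtain ⟨k, hk⟩ := hsodd
          rcases (show s = 3 ∨ s = 5 ∨ s = 7 ∨ s = 9 ∨ s = 11 ∨ s = 13 ∨ s = 15 ∨ s = 17 ∨ s = 19 ∨ s = 21 ∨ s = 23
            by omega) with h | h | h | h | h | h | h | h | h | h | h
          · exact h
          all_goals subst h; norm_num at this
        subst hs
        have h5a : 5 ∣ a := hpa 5 hep dvd_rfl
        have hq11 : 11 ≤ q := by
          by_contra hlt
          have h5q : 5 ∣ q - 1 := h5a.trans hadvd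
          have hq6 : q = 6 := by omega
          subst hq6
          obtain ⟨l, k, hl, hk, hlk⟩ := (isPrimePow_nat_iff 6).1 hqpp
          have h2 := (Nat.prime_dvd_prime_iff_eq Nat.prime_two hl).1
            (Nat.prime_two.dvd_of_dvd_pow (hlk.symm ▸ (by norm_num : 2 ∣ 6)))
          have h3 := (Nat.prime_dvd_prime_iff_eq Nat.prime_three hl).1
            (Nat.prime_three.dvd_of_dvd_pow (hlk.symm ▸ (by norm_num : 3 ∣ 6)))
          omega
        have h3 : 11 ^ 3 ≤ q ^ 3 := Nat.pow_le_pow_left hq11 3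
        refine ⟨?_, hrest 50 (hlarge 50 ?_) (by norm_num)⟩
        · show 2 * 5 ^ 2 * 3 ≤ q ^ 3
          norm_num at h3 ⊢; omega
        · show 64 * 50 ^ 2 < 49 * (3 - 1) ^ 2 * q ^ 3
          norm_num at h3 ⊢; omega
      · exact absurd hep (by norm_num)
      · -- seven
        have hs : s = 3 := by
          have : s ∣ 3 := Nat.Coprime.dvd_of_dvd_mul_right
            (Nat.Coprime.pow_right 4 (Nat.coprime_two_right.2 hsodd)) (show s ∣ 3 * 2 ^ 4 from hdvd)
          exact ((Nat.dvd_prime Nat.prime_three).1 this).resolve_left hs1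
        subst hs
        have h3 : 8 ^ 5 ≤ q ^ 5 := Nat.pow_le_pow_left hqe1 5
        refine ⟨?_, hrest 98 (hlarge 98 ?_) (by norm_num)⟩
        · show 2 * 7 ^ 2 * 3 ≤ q ^ 5
          norm_num at h3 ⊢; omega
        · show 64 * 98 ^ 2 < 49 * (3 - 1) ^ 2 * q ^ 5
          norm_num at h3 ⊢; omega
      all_goals exact absurd hep (by norm_num)
    · -- large primes
      have h8 : 8 * s ≤ e ^ 2 - 1 := by
        have h8e : 8 ∣ e ^ 2 - 1 := by
          obtain ⟨k, hk⟩ := heodd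
          subst hk
          obtain ⟨m, hm⟩ := Nat.even_mul_succ_self k
          exact ⟨m, by rw [show (2 * k + 1) ^ 2 - 1 = 4 * (k * (k + 1)) by ring_nf; omega, hm]; ring⟩
        refine Nat.le_of_dvd (Nat.sub_pos_of_lt (Nat.one_lt_pow two_ne_zero (by omega))) ?_
        exact Nat.Coprime.mul_dvd_of_dvd_of_dvd ((Nat.coprime_two_left.2 hsodd).pow_left 3) h8e hdvd
      have hbig : e ^ 8 < q ^ (e - 2) := by
        calc e ^ 8 < (e + 1) ^ 8 := Nat.pow_lt_pow_left (by omega) (by norm_num)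
          _ ≤ (e + 1) ^ (e - 2) := Nat.pow_le_pow_right (by omega) (by omega)
          _ ≤ _ := Nat.pow_le_pow_left hqe1 _
      have h4 : e ^ 4 ≤ e ^ 8 := Nat.pow_le_pow_right (by omega) (by norm_num)
      have hle8 : 8 * (e ^ 2 * s) ≤ e ^ 4 := by
        calc 8 * (e ^ 2 * s) = e ^ 2 * (8 * s) := by ring
          _ ≤ e ^ 2 * (e ^ 2 - 1) := Nat.mul_le_mul_left _ h8
          _ ≤ e ^ 2 * e ^ 2 := Nat.mul_le_mul_left _ (Nat.sub_le _ _)
          _ = e ^ 4 := by ring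
      refine ⟨by rw [mul_assoc]; omega, hrest (e ^ 2 * (s - 1)) (hlarge _ ?_) le_rfl⟩
      have hc : 8 * (e ^ 2 * (s - 1)) ≤ e ^ 4 :=
        le_trans (Nat.mul_le_mul_left _ (Nat.mul_le_mul_left _ (Nat.sub_le s 1))) hle8
      calc 64 * (e ^ 2 * (s - 1)) ^ 2 = (8 * (e ^ 2 * (s - 1))) ^ 2 := by ring
        _ ≤ (e ^ 4) ^ 2 := Nat.pow_le_pow_left hc 2
        _ = e ^ 8 := by ring
        _ < q ^ (e - 2) := hbig
        _ ≤ 49 * (3 - 1) ^ 2 * q ^ (e - 2) := Nat.le_mul_of_pos_left _ (by norm_num)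
  -- composite
  have h6 : 6 * s ≤ e ^ 4 := hgen.trans (by
    calc e ^ 2 * (e ^ 2 - 1) ≤ e ^ 2 * e ^ 2 := Nat.mul_le_mul_left _ (Nat.sub_le _ _)
      _ = e ^ 4 := by ring)
  by_cases h27 : e = 27
  · subst h27
    have hs : s ≤ 88452 := by norm_num at hgen; omega
    refine ⟨?_, ?_⟩
    · show 2 * 27 ^ 2 * s ≤ q ^ 25
      have h7 : 4 ^ 25 ≤ q ^ 25 := Nat.pow_le_pow_left hq4 25
      norm_num at h7 ⊢; omega
    rcases (show q = 4 ∨ 5 ≤ q by omega) with h | h
    · subst h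
      calc 64 * (a * 27 ^ 2 * (s - 1)) ^ 2 ≤ 64 * (3 * 27 ^ 2 * 88451) ^ 2 := by
            gcongr <;> omega
        _ < _ := by norm_num
    · refine hrest (27 ^ 2 * 88451) (hlarge _ ?_) (Nat.mul_le_mul_left _ (by omega))
      show 64 * (27 ^ 2 * 88451) ^ 2 < 49 * (3 - 1) ^ 2 * q ^ 25
      have h7 : 5 ^ 25 ≤ q ^ 25 := Nat.pow_le_pow_left h 25
      norm_num at h7 ⊢; omega
  have hX : e ^ 12 ≤ 100 * q ^ (e - 2) := by
    rcases Nat.lt_or_ge e 25 with h25 | h25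
    · have hq16 : e = 15 ∧ 16 ≤ q ∨ e = 21 ∧ 16 ≤ q := by
        have hne : ∀ l : ℕ, l.Prime → e ≠ l := fun l h e' => hep (e' ▸ h)
        have e3 := hne 3 Nat.prime_three
        have e5 := hne 5 Nat.prime_five
        have e7 := hne 7 (by norm_num)
        have e11 := hne 11 (by norm_num)
        have e13 := hne 13 (by norm_num)
        have e17 := hne 17 (by norm_num)
        have e19 := hne 19 (by norm_num)
        have e23 := hne 23 (by norm_num)
        obtain ⟨k, hk⟩ := heodd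
        rcases (show e = 15 ∨ e = 21 by omega) with h | h <;> subst h
        · have h1 := hpa 3 Nat.prime_three (by norm_num)
          have h2 := hpa 5 Nat.prime_five (by norm_num)
          have := Nat.le_of_dvd ha (Nat.Coprime.mul_dvd_of_dvd_of_dvd (by norm_num : Nat.Coprime 3 5) h1 h2)
          exact Or.inl ⟨rfl, by omega⟩
        · have h1 := hpa 3 Nat.prime_three (by norm_num)
          have h2 := hpa 7 (by norm_num) (by norm_num)
          have := Nat.le_of_dvd ha (Nat.Coprime.mul_dvd_of_dvd_of_dvd (by norm_num : Nat.Coprime 3 7) h1 h2)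
          exact Or.inr ⟨rfl, by omega⟩
      rcases hq16 with ⟨rfl, h16⟩ | ⟨rfl, h16⟩
      · show 15 ^ 12 ≤ 100 * q ^ 13
        have h7 : 16 ^ 13 ≤ q ^ 13 := Nat.pow_le_pow_left h16 13
        norm_num at h7 ⊢; omega
      · show 21 ^ 12 ≤ 100 * q ^ 19
        have h7 : 16 ^ 19 ≤ q ^ 19 := Nat.pow_le_pow_left h16 19
        norm_num at h7 ⊢; omega
    by_cases h5 : ∃ l, l.Prime ∧ l ∣ e ∧ 5 ≤ l
    · obtain ⟨l, hl, hle, hl5⟩ := h5
      have := Nat.le_of_dvd ha (hpa l hl hle)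
      exact (pow_six_bound e h25).trans (Nat.mul_le_mul_left _ (Nat.pow_le_pow_left (by omega) _))
    · have h81 : 81 ≤ e := by
        have he : e = 3 ^ e.primeFactorsList.length := Nat.eq_prime_pow_of_unique_prime_dvd (by omega) fun {d} hd hde => by
          have h1 : ¬ 5 ≤ d := fun h => h5 ⟨d, hd, hde, h⟩
          have h2 : d ≠ 2 := fun h => by
            obtain ⟨k, hk⟩ := heodd.of_dvd_nat hde
            omega
          have h3 : d ≠ 4 := fun h => by subst h; exact absurd hd (by norm_num)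
          have := hd.two_le
          omega
        generalize e.primeFactorsList.length = k at he
        subst he
        rcases Nat.lt_or_ge k 4 with hk | hk
        · interval_cases k
          all_goals omega
        · exact le_trans (by norm_num) (Nat.pow_le_pow_right (by norm_num) hk)
      exact (pow_four_bound e h81).trans (Nat.mul_le_mul_left _ (Nat.pow_le_pow_left hq4 _))
  have he6 : 2 ^ 6 ≤ e ^ 6 := Nat.pow_le_pow_left (by omega) 6
  refine ⟨?_, hrest (e ^ 2 * (s - 1)) (hlarge _ ?_) le_rfl⟩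
  · have h1 : 6 * (2 * e ^ 2 * s) ≤ 2 * e ^ 6 := by
      calc 6 * (2 * e ^ 2 * s) = 2 * e ^ 2 * (6 * s) := by ring
        _ ≤ 2 * e ^ 2 * e ^ 4 := Nat.mul_le_mul_left _ h6
        _ = 2 * e ^ 6 := by ring
    have h2 : 64 * e ^ 6 ≤ e ^ 12 := by
      calc 64 * e ^ 6 ≤ e ^ 6 * e ^ 6 := Nat.mul_le_mul_right _ (by norm_num at he6 ⊢; omega)
        _ = e ^ 12 := by ring
    omega
  · have h1 : 6 * (e ^ 2 * (s - 1)) ≤ e ^ 6 := by
      calc 6 * (e ^ 2 * (s - 1)) ≤ 6 * (e ^ 2 * s) := Nat.mul_le_mul_left _ (Nat.mul_le_mul_left _ (Nat.sub_le s 1))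
        _ = e ^ 2 * (6 * s) := by ring
        _ ≤ e ^ 2 * e ^ 4 := Nat.mul_le_mul_left _ h6
        _ = e ^ 6 := by ring
    have h2 : 36 * (e ^ 2 * (s - 1)) ^ 2 ≤ e ^ 12 := by
      calc 36 * (e ^ 2 * (s - 1)) ^ 2 = (6 * (e ^ 2 * (s - 1))) ^ 2 := by ring
        _ ≤ (e ^ 6) ^ 2 := Nat.pow_le_pow_left h1 2
        _ = e ^ 12 := by ring
    have hpos : 0 < q ^ (e - 2) := pow_pos hq0 _
    show 64 * (e ^ 2 * (s - 1)) ^ 2 < 49 * (3 - 1) ^ 2 * q ^ (e - 2)
    omega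

end CfsgLib.BaseTwo
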