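import Mathlib

/-!
# The commutator pairing of a class two section over an abelian normal subgroup
-/

set_option autoImplicit false

universe u v

namespace CfsgLib.BaseTwo

open scoped commutatorElement

variable {G : Type u} [Group G] [Finite G] {K : Type v} [CommRing K] [IsDomain K]

/-- The pairing lemma: commutators in `A` give at most as many classes on the left as on the right. -/
theorem relIndex_le_of_pairing {A : Subgroup G} (χ : A →* K) (hχ : Function.Injective χ)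
    (X Y : Subgroup G) (hY : ∀ a ∈ A, ∀ y ∈ Y, a * y = y * a)
    (hXY : ∀ x ∈ X, ∀ y ∈ Y, ⁅x, y⁆ ∈ A) :
    (X ⊓ Subgroup.centralizer (Y : Set G)).relIndex X ≤ (Y ⊓ Subgroup.centralizer (X : Set G)).relIndex Y := by
  classical
  have hmul : ∀ x ∈ X, ∀ y₁ ∈ Y, ∀ y₂ ∈ Y, ⁅x, y₁ * y₂⁆ = ⁅x, y₁⁆ * ⁅x, y₂⁆ := fun x hx y₁ h₁ y₂ h₂ => by
    have h3 : y₁ * ⁅x, y₂⁆ * y₁⁻¹ = ⁅x, y₂⁆ := by
      rw [← hY _ (hXY x hx y₂ h₂) y₁ h₁, mul_inv_cancel_right]
    calc ⁅x, y₁ * y₂⁆ = ⁅x, y₁⁆ * (y₁ * ⁅x, y₂⁆ * y₁⁻¹) := by simp only [commutatorElement_def]; group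
      _ = _ := by rw [h3]
  have hcomm : ∀ x y : G, ⁅x, y⁆ = 1 ↔ x * y = y * x := fun x y => commutatorElement_eq_one_iff_mul_comm
  let φ : X → (Y →* K) := fun x =>
    { toFun := fun y => χ ⟨⁅(x : G), y⁆, hXY x x.2 y y.2⟩
      map_one' := by
        rw [← map_one χ]; congr 1; exact Subtype.ext (commutatorElement_one_right _)
      map_mul' := fun y₁ y₂ => by
        rw [← map_mul]; congr 1; exact Subtype.ext (hmul x x.2 y₁ y₁.2 y₂ y₂.2) }
  set X₀ := (X ⊓ Subgroup.centralizer (Y : Set G)).subgroupOf X with hX₀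
  set Y₀ := (Y ⊓ Subgroup.centralizer (X : Set G)).subgroupOf Y with hY₀
  have hker : ∀ (x : X) (y k : Y), k ∈ Y₀ → φ x (y * k) = φ x y := fun x y k hk => by
    rw [map_mul]
    have h1 : φ x k = 1 := by
      show χ ⟨⁅(x : G), k⁆, _⟩ = 1
      rw [← map_one χ]; congr 1
      exact Subtype.ext ((hcomm _ _).2 (Subgroup.mem_centralizer_iff.1
        (Subgroup.mem_inf.1 (Subgroup.mem_subgroupOf.1 hk)).2 x x.2))
    rw [h1, mul_one]
  -- classes of `X` give distinct homomorphisms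
  let ψ : X ⧸ X₀ → (Y →* K) := fun c => φ c.out
  have hψ : Function.Injective ψ := fun c d h => by
    rw [← QuotientGroup.out_eq' c, ← QuotientGroup.out_eq' d, QuotientGroup.eq]
    refine Subgroup.mem_subgroupOf.2 (Subgroup.mem_inf.2 ?_)
    refine ⟨(c.out⁻¹ * d.out).2, Subgroup.mem_centralizer_iff.2 fun y hy => ?_⟩
    have h1 : ⁅(c.out : G), y⁆ = ⁅(d.out : G), y⁆ :=
      congrArg Subtype.val (hχ (DFunLike.congr_fun h ⟨y, hy⟩))
    rw [commutatorElement_def, commutatorElement_def, mul_left_inj] at h1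
    show y * ((c.out : G)⁻¹ * d.out) = (c.out : G)⁻¹ * d.out * y
    calc y * ((c.out : G)⁻¹ * d.out) = (c.out : G)⁻¹ * ((c.out : G) * y * (c.out : G)⁻¹) * d.out := by group
      _ = (c.out : G)⁻¹ * ((d.out : G) * y * (d.out : G)⁻¹) * d.out := by rw [h1]
      _ = (c.out : G)⁻¹ * d.out * y := by group
  -- they are linearly independent functions on the classes of `Y`
  let f : X ⧸ X₀ → (Y ⧸ Y₀ → K) := fun c q => ψ c q.out
  let L : (Y ⧸ Y₀ → K) →ₗ[K] (Y → K) := LinearMap.funLeft K K (fun y => (y : Y ⧸ Y₀))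
  have hLf : ∀ c, L (f c) = (ψ c : Y → K) := fun c => funext fun y => by
    show ψ c ((y : Y ⧸ Y₀).out) = ψ c y
    obtain ⟨k, hk⟩ := QuotientGroup.mk_out_eq_mul Y₀ y
    rw [hk]
    exact hker _ y k k.2
  have hli : LinearIndependent K f := by
    refine LinearIndependent.of_comp L ?_
    rw [show (L : _ → _) ∘ f = fun c => (ψ c : Y → K) from funext hLf]
    exact (linearIndependent_monoidHom Y K).comp ψ hψ
  haveI := Fintype.ofFinite (X ⧸ X₀)
  haveI := Fintype.ofFinite (Y ⧸ Y₀)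
  have := hli.fintype_card_le_finrank
  rw [Module.finrank_pi, ← Nat.card_eq_fintype_card, ← Nat.card_eq_fintype_card] at this
  exact this

end CfsgLib.BaseTwo
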