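import Cfsg.Agent.Lib.FgsC.BaseTwo.Basic
import Cfsg.Agent.Lib.FT.OddOrderTheorem

/-!
# A permutation group of odd order has a regular orbit on the power set

Fibred actions glue sets; for a maximal point stabiliser the regular normal subgroup is abelian and a
regular pair `v, w` of the stabiliser gives the parallelogram `1, v, w, vw`.
-/

set_option autoImplicit false

universe u v

namespace CfsgLib.BaseTwo

open MulAction

/-- Gluing along an equivariant surjection. -/
theorem hasSet_fibred {G : Type u} [Group G] [Finite G] (hG : Odd (Nat.card G))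
    {Ω Ω' : Type v} [MulAction G Ω] [MulAction G Ω'] (π : Ω → Ω')
    (hπ : ∀ (g : G) x, π (g • x) = g • π x) (hsurj : Function.Surjective π) (htop : HasSet G Ω')
    (hfib : ∀ i : Ω', ∃ S : Set Ω, ∀ g : G, g • i = i →
      (∀ x, π x = i → (g • x ∈ S ↔ x ∈ S)) → ∀ x, π x = i → g • x = x) :
    HasSet G Ω := by
  classical
  choose F hF using hfib
  obtain ⟨T, hT⟩ := htop
  let rep : Ω' → Ω' := fun i => (Quotient.mk (orbitRel G Ω') i).out
  have hrep : ∀ i, ∃ g : G, g • rep i = i := fun i =>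
    MulAction.mem_orbit_iff.1 (orbitRel_apply.1 ((orbitRel G Ω').iseqv.symm
      (Quotient.exact (Quotient.out_eq (Quotient.mk (orbitRel G Ω') i)))))
  have hrepg : ∀ (g : G) i, rep (g • i) = rep i := fun g i =>
    congrArg Quotient.out (Quotient.sound (s := orbitRel G Ω') ⟨g, rfl⟩)
  choose t ht using hrep
  refine ⟨{x | (t (π x))⁻¹ • x ∈ F (rep (π x)) ↔ π x ∈ T}, fun g hg => ?_⟩
  let h : Ω' → G := fun i => (t (g • i))⁻¹ * g * t i
  have hh : ∀ i, h i • rep i = rep i := fun i => by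
    simp only [h, mul_smul]
    rw [ht, inv_smul_eq_iff, ← hrepg g i]
    exact (ht _).symm
  have hkey : ∀ i y, π y = rep i →
      (((h i • y ∈ F (rep i)) ↔ g • i ∈ T) ↔ (y ∈ F (rep i) ↔ i ∈ T)) := fun i y hy => by
    have h1 := hg (t i • y)
    have e1 : π (t i • y) = i := by rw [hπ, hy, ht]
    have e2 : π (g • t i • y) = g • i := by rw [hπ, e1]
    simp only [Set.mem_ofPred_eq, e1, e2, hrepg, inv_smul_smul] at h1
    simpa only [h, mul_smul] using h1
  have hTT : ∀ i, g • i ∈ T ↔ i ∈ T := fun i => by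
    by_contra hne
    have hsw : ∀ y, π y = rep i → (h i • y ∈ F (rep i) ↔ ¬ y ∈ F (rep i)) := fun y hy => by
      have := hkey i y hy
      tauto
    have htriv : ∀ y, π y = rep i → h i • y = y := fun y hy => fixed_of_sq hG (by
      rw [smul_smul]
      refine hF (rep i) (h i * h i) (by rw [mul_smul, hh, hh]) (fun z hz => ?_) y hy
      have h2 := hsw z hz
      have h3 := hsw (h i • z) (by rw [hπ, hz, hh])
      rw [mul_smul]
      tauto)
    obtain ⟨y, hy⟩ := hsurj (rep i)
    have := hsw y hy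
    rw [htriv y hy] at this
    tauto
  intro x
  have hfix := hT g hTT (π x)
  have h4 : h (π x) • ((t (π x))⁻¹ • x) = (t (π x))⁻¹ • x := by
    refine hF (rep (π x)) _ (hh _) (fun z hz => ?_) _ (by rw [hπ, inv_smul_eq_iff, ht])
    have := hkey (π x) z hz
    rw [hfix] at this
    tauto
  simp only [h, hfix, mul_smul, smul_inv_smul] at h4
  exact (smul_left_cancel_iff _).1 h4

/-- Two pairings of four points. -/
theorem four_cases : ∀ a b c d : Fin 4, a ≠ b → a ≠ c → a ≠ d → b ≠ c → b ≠ d → c ≠ d →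
    (∀ i : Fin 4, ![a, b, c, d] (![a, b, c, d] (![a, b, c, d] (![a, b, c, d] i))) = i) ∨
      ((s(d, a) = s(0, 1) ∧ s(b, c) = s(2, 3)) ∨ (s(d, a) = s(2, 3) ∧ s(b, c) = s(0, 1))) ∨
      ((s(d, a) = s(0, 2) ∧ s(b, c) = s(1, 3)) ∨ (s(d, a) = s(1, 3) ∧ s(b, c) = s(0, 2))) := by
  decide +kernel

/-- The parallelogram. -/
theorem fix_of_parallelogram {M : Type v} [CommGroup M] (hM : Odd (Nat.card M)) [Finite M]
    (φ : M → M) {v w : M} (hv : v ≠ 1) (hw : w ≠ 1) (hvw : v ≠ w) (hvw' : v * w ≠ 1)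
    (hφ : Function.Injective φ) (haff : ∀ x y, φ (x * y) * φ 1 = φ x * φ y)
    (hS : ∀ x ∈ ({1, v, w, v * w} : Set M), φ x ∈ ({1, v, w, v * w} : Set M))
    (hodd : ∃ n, Odd n ∧ ∀ x, φ^[n] x = x) : φ 1 = 1 ∧ φ v = v ∧ φ w = w := by
  classical
  have hsq : ∀ x : M, x * x = 1 → x = 1 := fun x hx => by
    obtain ⟨k, hk⟩ : Odd (orderOf x) := hM.of_dvd_nat (orderOf_dvd_natCard x)
    have h2 : orderOf x ∣ 2 := orderOf_dvd_of_pow_eq_one (by rw [pow_two, hx])
    have := Nat.le_of_dvd two_pos h2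
    exact orderOf_eq_one_iff.1 (by omega)
  let f : Fin 4 → M := ![1, v, w, v * w]
  have hf : Function.Injective f := by
    intro i j hij
    fin_cases i <;> fin_cases j <;> simp_all [f, eq_comm]
  have hr : ∀ x, x ∈ ({1, v, w, v * w} : Set M) ↔ ∃ i, f i = x := fun x => by
    constructor
    · rintro (rfl | rfl | rfl | rfl)
      exacts [⟨0, rfl⟩, ⟨1, rfl⟩, ⟨2, rfl⟩, ⟨3, rfl⟩]
    · rintro ⟨i, rfl⟩
      fin_cases i <;> simp [f]
  have hs : ∀ i, ∃ j, f j = φ (f i) := fun i => (hr _).1 (hS _ ((hr _).2 ⟨i, rfl⟩))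
  choose s hsf using hs
  have hinj : Function.Injective s := fun i j hij => hf (hφ (by rw [← hsf, ← hsf, hij]))
  let σ : Equiv.Perm (Fin 4) := Equiv.ofBijective s (Finite.injective_iff_bijective.1 hinj)
  have hrel : f (s 3) * f (s 0) = f (s 1) * f (s 2) := by
    rw [hsf, hsf, hsf, hsf]
    exact haff v w
  have h4i : ∀ i, s (s (s (s i))) = i := by
    have es : ![s 0, s 1, s 2, s 3] = s := funext fun i => by fin_cases i <;> rfl
    rcases four_cases (s 0) (s 1) (s 2) (s 3) (fun h => absurd (hinj h) (by decide))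
        (fun h => absurd (hinj h) (by decide)) (fun h => absurd (hinj h) (by decide))
        (fun h => absurd (hinj h) (by decide)) (fun h => absurd (hinj h) (by decide))
        (fun h => absurd (hinj h) (by decide)) with h | h | h
    · rwa [es] at h
    all_goals exfalso
    all_goals
      let P : Sym2 (Fin 4) → M := Sym2.lift ⟨fun i j => f i * f j, fun _ _ => mul_comm _ _⟩
      have hP : P s(s 3, s 0) = P s(s 1, s 2) := hrel
    · rcases h with ⟨h1, h2⟩ | ⟨h1, h2⟩ <;> rw [h1, h2] at hP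
      all_goals
        refine hw (hsq w ?_)
        simp [P, f] at hP
      · exact mul_eq_left.1 ((mul_left_comm v w w).trans hP.symm)
      · exact mul_eq_left.1 ((mul_left_comm v w w).trans hP)
    · rcases h with ⟨h1, h2⟩ | ⟨h1, h2⟩ <;> rw [h1, h2] at hP
      all_goals
        refine hv (hsq v ?_)
        simp [P, f] at hP
      · exact mul_eq_right.1 ((mul_assoc v v w).trans hP.symm)
      · exact mul_eq_right.1 ((mul_assoc v v w).trans hP)
  obtain ⟨n, hn, hnfix⟩ := hodd
  have hiter : ∀ k i, φ^[k] (f i) = f ((σ ^ k) i) := by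
    intro k
    induction k with
    | zero => intro i; rfl
    | succ k ih =>
      intro i
      rw [Function.iterate_succ_apply', ih, ← hsf, pow_succ', Equiv.Perm.mul_apply]
      rfl
  have hσn : σ ^ n = 1 := Equiv.ext fun i => hf (by rw [← hiter, hnfix]; rfl)
  have h4 : orderOf σ ∣ 4 := orderOf_dvd_of_pow_eq_one (Equiv.ext h4i)
  have ho : Odd (orderOf σ) := hn.of_dvd_nat (orderOf_dvd_of_pow_eq_one hσn)
  have hσ1 : σ = 1 := orderOf_eq_one_iff.1 (by
    obtain ⟨i, -, hi⟩ := (Nat.dvd_prime_pow Nat.prime_two).1 (show orderOf σ ∣ 2 ^ 2 from h4)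
    rcases i.eq_zero_or_pos with rfl | hi0
    · exact hi
    · exact absurd (hi ▸ ho) (Nat.not_odd_iff_even.2 ((Nat.even_pow' hi0.ne').2 even_two)))
  have hid : ∀ i, s i = i := fun i => by
    show σ i = i
    rw [hσ1]; rfl
  exact ⟨(hsf 0).symm.trans (congrArg f (hid 0)), (hsf 1).symm.trans (congrArg f (hid 1)),
    (hsf 2).symm.trans (congrArg f (hid 2))⟩

end CfsgLib.BaseTwo
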