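import Cfsg.Agent.Lib.FgsC.BaseTwo.Basic

/-!
# Groups of odd order fixing an alternating pairing

Order bounds: `6|H| ≤ d(d-1)` from a regular pair; `|H|` divides `p² - 1` on a plane; `|H|` divides `5`
on a four dimensional space over the field of three elements.
-/

set_option autoImplicit false

universe u v w

namespace CfsgLib.BaseTwo

open MulAction

variable {H : Type u} [Group H] [Finite H] {M : Type v} [AddCommGroup M] [Finite M] [DistribMulAction H M]

/-- A subgroup that is not everything has index at least three in a group of odd order. -/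
theorem three_mul_card_le {G : Type v} [AddGroup G] [Finite G] (hG : Odd (Nat.card G)) {K : AddSubgroup G}
    (hK : K ≠ ⊤) : 3 * Nat.card K ≤ Nat.card G := by
  rw [← K.card_mul_index, mul_comm 3]
  refine Nat.mul_le_mul_left _ ?_
  have h1 : K.index ≠ 1 := fun h => hK (AddSubgroup.index_eq_one.1 h)
  obtain ⟨k, hk⟩ : Odd K.index := hG.of_dvd_nat K.index_dvd_card
  omega

/-- The orbit of a non-zero vector misses the negative orbit. -/
theorem two_mul_orbit_le (hH : Odd (Nat.card H)) (hM : Odd (Nat.card M)) {v : M} (hv : v ≠ 0) :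
    2 * (orbit H v).ncard + 1 ≤ Nat.card M := by
  classical
  have h2 : ∀ x : M, -x = x → x = 0 := fun x hx => by
    have h3 : (2 : ℕ) • x = 0 := by rw [two_nsmul]; nth_rw 1 [← hx]; exact neg_add_cancel x
    obtain ⟨k, hk⟩ : Odd (addOrderOf x) := hM.of_dvd_nat (addOrderOf_dvd_natCard x)
    have := Nat.le_of_dvd two_pos (addOrderOf_dvd_of_nsmul_eq_zero h3)
    exact AddMonoid.addOrderOf_eq_one_iff.1 (by omega)
  have h0 : (0 : M) ∉ orbit H v := by
    rintro ⟨h, hh⟩
    exact hv ((smul_eq_zero_iff_eq h).1 hh)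
  have hdisj : Disjoint (orbit H v) ((fun x => -x) '' orbit H v) := by
    rw [Set.disjoint_left]
    rintro _ ⟨h, rfl⟩ ⟨_, ⟨k, rfl⟩, hk⟩
    have h1 : (k⁻¹ * h) • v = -v := by
      rw [mul_smul, show h • v = -(k • v) from hk.symm, smul_neg, inv_smul_smul]
    have h4 : (k⁻¹ * h) • v = v := fixed_of_sq hH (by rw [h1, smul_neg, h1, neg_neg])
    exact hv (h2 v (h1.symm.trans h4))
  have hsub : insert (0 : M) (orbit H v ∪ (fun x => -x) '' orbit H v) ⊆ Set.univ := Set.subset_univ _
  have := Set.ncard_le_ncard hsub (Set.toFinite _)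
  rw [Set.ncard_univ, Set.ncard_insert_of_notMem (by
      rintro (h | ⟨x, hx, hx'⟩)
      · exact h0 h
      · exact h0 (neg_eq_zero.1 hx' ▸ hx)), Set.ncard_union_eq hdisj,
    Set.ncard_image_of_injective _ neg_injective] at this
  omega

/-- Orbit–stabiliser. -/
theorem card_eq_orbit_mul {G : Type u} [Group G] [Finite G] {X : Type v} [MulAction G X] (x : X) :
    Nat.card G = (orbit G x).ncard * Nat.card (stabilizer G x) := by
  rw [← index_stabilizer, mul_comm, Subgroup.card_mul_index]

variable {B : Type w} [AddCommGroup B] (β : M →+ M →+ B)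

/-- The bound from a regular pair. -/
theorem six_mul_card_le (hH : Odd (Nat.card H)) (hM : Odd (Nat.card M)) (h7 : 7 ≤ Nat.card M)
    (hnd : ∀ m, (∀ k, β m k = 0) → m = 0) (hinv : ∀ (h : H) m k, β (h • m) (h • k) = β m k)
    (hpair : ∃ v w : M, ∀ h : H, h • v = v → h • w = w → h = 1) :
    6 * Nat.card H ≤ Nat.card M * (Nat.card M - 1) := by
  classical
  obtain ⟨v, w, hvw⟩ := hpair
  set d := Nat.card M with hd
  have hst : Nat.card (stabilizer H v) ≤ (orbit (stabilizer H v) w).ncard := by
    rw [← Nat.card_coe_set_eq]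
    refine Nat.card_le_card_of_injective (fun h : stabilizer H v => (⟨(h : H) • w, h, rfl⟩ : orbit (stabilizer H v) w))
      fun h k e => Subtype.ext ?_
    have e' : (h : H) • w = (k : H) • w := congrArg Subtype.val e
    refine (inv_mul_eq_one.1 (hvw ((k : H)⁻¹ * h) ?_ ?_)).symm
    · rw [mul_smul, mem_stabilizer_iff.1 h.2, inv_smul_eq_iff, mem_stabilizer_iff.1 k.2]
    · rw [mul_smul, e', inv_smul_smul]
  rw [card_eq_orbit_mul (G := H) v]
  by_cases hv : v = 0
  · subst hv
    have h1 : (orbit H (0 : M)).ncard ≤ 1 := by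
      rw [Set.ncard_le_one (Set.toFinite _)]
      rintro a ⟨g, rfl⟩ b ⟨k, rfl⟩
      simp
    have h2 : (orbit (stabilizer H (0 : M)) w).ncard ≤ d := Set.ncard_le_card _
    calc 6 * ((orbit H (0 : M)).ncard * Nat.card (stabilizer H (0 : M))) ≤ 6 * (1 * d) :=
          Nat.mul_le_mul_left _ (Nat.mul_le_mul h1 (hst.trans h2))
      _ ≤ d * (d - 1) := by
          rw [one_mul, mul_comm 6]
          exact Nat.mul_le_mul_left _ (by omega)
  · have hker : (β v).ker ≠ ⊤ := fun h => hv (hnd v fun k => (h.symm ▸ AddSubgroup.mem_top k : k ∈ (β v).ker))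
    have h3 := three_mul_card_le hM hker
    have hsub : (orbit (stabilizer H v) w).ncard ≤ Nat.card (β v).ker := by
      rw [← Nat.card_coe_set_eq]
      refine Nat.card_le_card_of_injective (fun x => (⟨x.1 - w, ?_⟩ : (β v).ker)) fun x y e => Subtype.ext
        (sub_left_inj.1 (congrArg Subtype.val e))
      obtain ⟨h, hh⟩ := x.2
      have e : x.1 = (h : H) • w := hh.symm
      rw [AddMonoidHom.mem_ker, map_sub, e]
      have h5 := hinv (h : H) v w
      rw [mem_stabilizer_iff.1 h.2] at h5
      rw [h5, sub_self]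
    have h2 := two_mul_orbit_le hH hM hv
    calc 6 * ((orbit H v).ncard * Nat.card (stabilizer H v))
        = (3 * Nat.card (stabilizer H v)) * (2 * (orbit H v).ncard) := by ring
      _ ≤ d * (d - 1) := Nat.mul_le_mul ((Nat.mul_le_mul_left 3 (hst.trans hsub)).trans h3) (by omega)

/-- A group acting freely on the non-zero vectors. -/
theorem card_dvd_of_free (hfree : ∀ v : M, v ≠ 0 → ∀ h : H, h • v = v → h = 1) :
    Nat.card H ∣ Nat.card M - 1 := by
  classical
  let X : SubMulAction H M :=
    { carrier := {x | x ≠ 0}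
      smul_mem' := fun h x hx e => hx ((smul_eq_zero_iff_eq h).1 e) }
  have hX : Nat.card X = Nat.card M - 1 := by
    show Nat.card ({x : M | x ≠ 0} : Set M) = _
    rw [Nat.card_coe_set_eq, show ({x : M | x ≠ 0} : Set M) = ({0} : Set M)ᶜ from rfl, Set.ncard_compl,
      Set.ncard_singleton]
  have hst : ∀ x : X, stabilizer H x = ⊥ := fun x => (Subgroup.eq_bot_iff_forall _).2 fun h hh =>
    hfree x.1 x.2 h (congrArg Subtype.val hh)
  rw [← hX]
  haveI := Fintype.ofFinite (Quotient (orbitRel H X))
  rw [Nat.card_congr (selfEquivSigmaOrbitsQuotientStabilizer H X), Nat.card_sigma]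
  exact Finset.dvd_sum fun ω _ => by
    rw [hst, ← Subgroup.index_eq_card, Subgroup.index_bot]

variable {p : ℕ}

/-- A `p`-group fixes a non-zero vector. -/
theorem exists_fixed_ne_zero [Fact p.Prime] (hdvd : p ∣ Nat.card M) {P : Subgroup H} (hP : IsPGroup p P) :
    ∃ v : M, v ≠ 0 ∧ ∀ h ∈ P, h • v = v := by
  obtain ⟨v, hv, hne⟩ := hP.exists_fixed_point_of_prime_dvd_card_of_fixed_point M hdvd (a := (0 : M))
    (fun h => smul_zero (h : H))
  exact ⟨v, hne.symm, fun h hh => hv ⟨h, hh⟩⟩

/-- The plane. -/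
theorem card_dvd_plane [Fact p.Prime] [FaithfulSMul H M] (hH : Odd (Nat.card H)) (hM : Odd (Nat.card M))
    (hcard : Nat.card M = p ^ 2)
    (hexp : ∀ m : M, p • m = 0) (halt : ∀ m, β m m = 0) (hnd : ∀ m, (∀ k, β m k = 0) → m = 0)
    (hinv : ∀ (h : H) m k, β (h • m) (h • k) = β m k)
    (hO : ∀ P : Subgroup H, P.Characteristic → IsPGroup p P → P = ⊥) :
    Nat.card H ∣ p ^ 2 - 1 := by
  classical
  have hp := (Fact.out : p.Prime)
  have hord : ∀ v : M, v ≠ 0 → addOrderOf v = p := fun v hv => addOrderOf_eq_prime (hexp v) hv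
  have hkerv : ∀ v : M, v ≠ 0 → (β v).ker = AddSubgroup.zmultiples v := fun v hv => by
    have hne : (β v).ker ≠ ⊤ := fun h => hv (hnd v fun k => (h.symm ▸ AddSubgroup.mem_top k : k ∈ (β v).ker))
    have hle : AddSubgroup.zmultiples v ≤ (β v).ker := AddSubgroup.zmultiples_le.2 (halt v)
    refine (AddSubgroup.eq_of_le_of_card_ge hle ?_).symm
    rw [Nat.card_zmultiples, hord v hv]
    have h1 : Nat.card (β v).ker ∣ p ^ 2 := hcard ▸ AddSubgroup.card_addSubgroup_dvd_card _
    obtain ⟨i, hi, hi'⟩ := (Nat.dvd_prime_pow hp).1 h1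
    interval_cases i
    · rw [hi', pow_zero]; exact hp.one_le
    · rw [hi', pow_one]
    · exact absurd (AddSubgroup.eq_top_of_card_eq _ (hi'.trans hcard.symm)) hne
  have hmove : ∀ v : M, v ≠ 0 → ∀ h : H, h • v = v → ∀ m : M, h • m - m ∈ AddSubgroup.zmultiples v :=
    fun v hv h hh m => by
      rw [← hkerv v hv, AddMonoidHom.mem_ker, map_sub]
      conv_lhs => arg 1; rw [← hh]
      rw [hinv, sub_self]
  have hfixmul : ∀ v : M, ∀ h : H, h • v = v → ∀ k ∈ AddSubgroup.zmultiples v, h • k = k := fun v h hh k hk => by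
    obtain ⟨z, rfl⟩ := AddSubgroup.mem_zmultiples_iff.1 hk
    rw [smul_comm, hh]
  have hpow : ∀ v : M, v ≠ 0 → ∀ h : H, h • v = v → h ^ p = 1 := fun v hv h hh => by
    refine FaithfulSMul.eq_of_smul_eq_smul fun m : M => ?_
    have hit : ∀ n : ℕ, h ^ n • m = m + n • (h • m - m) := by
      intro n
      induction n with
      | zero => simp
      | succ n ih =>
        rw [pow_succ', mul_smul, ih, smul_add, hfixmul v h hh _ (AddSubgroup.nsmul_mem _ (hmove v hv h hh m) n),
          succ_nsmul]
        abel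
    rw [hit, hexp, add_zero, one_smul]
  have hstab : ∀ v : M, v ≠ 0 → IsPGroup p (stabilizer H v) ∧ Nat.card (stabilizer H v) ≤ p := fun v hv => by
    refine ⟨fun h => ⟨1, Subtype.ext (by simpa using hpow v hv h h.2)⟩, ?_⟩
    obtain ⟨m, hm⟩ : ∃ m, m ∉ AddSubgroup.zmultiples v := by
      by_contra hall
      push Not at hall
      have := congrArg (fun K : AddSubgroup M => Nat.card K) ((AddSubgroup.eq_top_iff' _).2 hall)
      simp only [Nat.card_zmultiples, hord v hv, AddSubgroup.card_top, hcard] at this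
      nlinarith [hp.two_le]
    have hinj : Function.Injective fun h : stabilizer H v => (⟨(h : H) • m - m, hmove v hv h h.2 m⟩ : AddSubgroup.zmultiples v) := by
      intro h k e
      have e' : (h : H) • m = (k : H) • m := sub_left_inj.1 (congrArg Subtype.val e)
      refine Subtype.ext (inv_mul_eq_one.1 (FaithfulSMul.eq_of_smul_eq_smul fun x : M => ?_)).symm
      rw [one_smul]
      set g := (k : H)⁻¹ * h
      have hgv : g • v = v := by
        rw [mul_smul, mem_stabilizer_iff.1 h.2, inv_smul_eq_iff, mem_stabilizer_iff.1 k.2]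
      have hgm : g • m = m := by rw [mul_smul, e', inv_smul_smul]
      let F : AddSubgroup M :=
        { carrier := {y | g • y = y}
          zero_mem' := smul_zero g
          add_mem' := fun {a b} ha hb => by
            show g • (a + b) = a + b
            rw [smul_add, ha, hb]
          neg_mem' := fun {a} ha => by show g • -a = -a; rw [smul_neg, ha] }
      have hle : AddSubgroup.zmultiples v ≤ F := AddSubgroup.zmultiples_le.2 hgv
      have hlt : Nat.card (AddSubgroup.zmultiples v) < Nat.card F := by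
        refine lt_of_le_of_ne (AddSubgroup.card_le_of_le hle) fun he => hm ?_
        rw [AddSubgroup.eq_of_le_of_card_ge hle he.ge]
        exact hgm
      rw [Nat.card_zmultiples, hord v hv] at hlt
      obtain ⟨i, hi, hi'⟩ := (Nat.dvd_prime_pow hp).1 (hcard ▸ AddSubgroup.card_addSubgroup_dvd_card F)
      interval_cases i
      · rw [hi', pow_zero] at hlt; exact absurd hlt (by have := hp.two_le; omega)
      · rw [hi', pow_one] at hlt; exact absurd hlt (lt_irrefl p)
      · exact ((AddSubgroup.eq_top_of_card_eq F (hi'.trans hcard.symm)).symm ▸ AddSubgroup.mem_top x : x ∈ F)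
    have := Nat.card_le_card_of_injective _ hinj
    rwa [Nat.card_zmultiples, hord v hv] at this
  have hpM : p ∣ Nat.card M := hcard ▸ dvd_pow_self p two_ne_zero
  have hnp : ¬ p ∣ Nat.card H := by
    intro hpH
    have hne : ∀ P : Sylow p H, p ≤ Nat.card (P : Subgroup H) := fun P => by
      refine Nat.le_of_dvd Nat.card_pos ?_
      have := P.pow_dvd_card_of_pow_dvd_card (n := 1) (by simpa using hpH)
      simpa using this
    choose v hv hvfix using fun P : Sylow p H => exists_fixed_ne_zero hpM P.2
    have heq : ∀ P : Sylow p H, (P : Subgroup H) = stabilizer H (v P) := fun P =>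
      Subgroup.eq_of_le_of_card_ge (fun h hh => hvfix P h hh) ((hstab _ (hv P)).2.trans (hne P))
    have hline : ∀ P Q : Sylow p H, v Q ∈ AddSubgroup.zmultiples (v P) → P = Q := fun P Q h => by
      refine Sylow.ext (Subgroup.eq_of_le_of_card_ge ?_ ?_)
      · intro x hx
        rw [heq Q, mem_stabilizer_iff]
        exact hfixmul _ x (hvfix P x hx) _ h
      · rw [heq Q]
        exact (hstab _ (hv Q)).2.trans (hne P)
    -- the lines
    haveI := Fintype.ofFinite (Sylow p H)
    let L : Sylow p H → Finset M := fun P =>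
      ((Set.toFinite ((AddSubgroup.zmultiples (v P) : Set M) \ {0}))).toFinset
    have hLcard : ∀ P, (L P).card = p - 1 := fun P => by
      rw [← Set.ncard_eq_toFinset_card, Set.ncard_sdiff (by simp), Set.ncard_singleton, ← Nat.card_coe_set_eq,
        SetLike.coe_sort_coe, Nat.card_zmultiples, hord _ (hv P)]
    have hLdisj : ((Finset.univ : Finset (Sylow p H)) : Set (Sylow p H)).PairwiseDisjoint L := fun P _ Q _ hPQ => by
      show Disjoint (L P) (L Q)
      rw [Finset.disjoint_left]
      intro x hxP hxQ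
      simp only [L, Set.Finite.mem_toFinset, Set.mem_diff, SetLike.mem_coe, Set.mem_singleton_iff] at hxP hxQ
      refine hPQ (hline P Q ?_)
      have hx : AddSubgroup.zmultiples x = AddSubgroup.zmultiples (v Q) :=
        AddSubgroup.eq_of_le_of_card_ge (AddSubgroup.zmultiples_le.2 hxQ.1)
          (by rw [Nat.card_zmultiples, Nat.card_zmultiples, hord x hxQ.2, hord _ (hv Q)])
      exact AddSubgroup.zmultiples_le.2 hxP.1 (hx.symm ▸ AddSubgroup.mem_zmultiples (v Q))
    have hsum : (Finset.univ.biUnion L).card ≤ p ^ 2 - 1 := by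
      have hsub : ((Finset.univ.biUnion L : Finset M) : Set M) ⊆ ({0} : Set M)ᶜ := by
        intro x hx
        simp [L] at hx
        exact hx.2
      have := Set.ncard_le_ncard hsub (Set.toFinite _)
      rw [Set.ncard_coe_finset, Set.ncard_compl, Set.ncard_singleton, hcard] at this
      exact this
    rw [Finset.card_biUnion hLdisj, Finset.sum_const_nat fun P _ => hLcard P, Finset.card_univ,
      ← Nat.card_eq_fintype_card] at hsum
    have hle : Nat.card (Sylow p H) ≤ p + 1 := by
      refine Nat.le_of_mul_le_mul_right (hsum.trans ?_) (by have := hp.two_le; omega : 0 < p - 1)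
      rw [show p ^ 2 - 1 = (p + 1) * (p - 1) by simpa using Nat.sq_sub_sq p 1]
    have hmod := card_sylow_modEq_one p H
    obtain ⟨P⟩ : Nonempty (Sylow p H) := inferInstance
    have hn1 : Nat.card (Sylow p H) ≠ 1 := fun h1 => by
      haveI : Subsingleton (Sylow p H) := (Nat.card_eq_one_iff_unique.1 h1).1
      haveI : (P : Subgroup H).Normal := P.normal_of_subsingleton
      have := hO P (Sylow.characteristic_of_normal P inferInstance) P.2
      have h3 := hne P
      rw [this, Subgroup.card_bot] at h3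
      exact absurd h3 (by have := hp.two_le; omega)
    have heqn : Nat.card (Sylow p H) = p + 1 := by
      have h2 : 1 ≤ Nat.card (Sylow p H) := Nat.card_pos
      have h4 : p ∣ Nat.card (Sylow p H) - 1 := (Nat.modEq_iff_dvd' h2).1 hmod.symm
      have := Nat.le_of_dvd (by omega) h4
      omega
    have hodd : Odd (Nat.card (Sylow p H)) := hH.of_dvd_nat (P.card_dvd_index.trans (Subgroup.index_dvd_card _))
    have hpodd : Odd p := hM.of_dvd_nat hpM
    rw [heqn] at hodd
    obtain ⟨a, ha⟩ := hpodd
    obtain ⟨b, hb⟩ := hodd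
    omega
  rw [← hcard]
  refine card_dvd_of_free fun v hv h hh => ?_
  by_contra h1
  have hho : orderOf h = p := orderOf_eq_prime (hpow v hv h hh) h1
  exact hnp (hho ▸ orderOf_dvd_natCard h)

/-- Four dimensions over the field of three elements. -/
theorem card_dvd_five [FaithfulSMul H M] (hcard : Nat.card M = 81) (hH : Odd (Nat.card H))
    (hexp : ∀ m : M, 3 • m = 0) (halt : ∀ m, β m m = 0) (hker : ∀ v, v ≠ 0 → 3 * Nat.card (β v).ker = 81)
    (hinv : ∀ (h : H) m k, β (h • m) (h • k) = β m k)
    (hO : ∀ P : Subgroup H, P.Characteristic → IsPGroup 3 P → P = ⊥) :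
    Nat.card H ∣ 5 := by
  classical
  haveI : Fact (Nat.Prime 3) := ⟨Nat.prime_three⟩
  haveI : Fact (Nat.Prime 5) := ⟨Nat.prime_five⟩
  -- an element of prime order other than three fixes no non-zero vector
  have hfree : ∀ r : ℕ, r.Prime → r ≠ 3 → ∀ h : H, orderOf h = r → ∀ v : M, v ≠ 0 → h • v ≠ v := by
    intro r hr hr3 h hhr v hv hhv
    haveI : Fact r.Prime := ⟨hr⟩
    have hr2 : r ≠ 2 := fun h2 => by
      obtain ⟨k, hk⟩ := hH.of_dvd_nat (hhr ▸ orderOf_dvd_natCard h : r ∣ Nat.card H)
      omega
    have hP : IsPGroup r (Subgroup.zpowers h) := IsPGroup.of_card (n := 1) (by rw [Nat.card_zpowers, hhr, pow_one])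
    have hkne : (β v).ker ≠ ⊤ := fun e => by
      have := hker v hv
      rw [e, AddSubgroup.card_top, hcard] at this
      omega
    obtain ⟨m, -, hm⟩ := SetLike.exists_of_lt (lt_top_iff_ne_top.2 hkne)
    let X : SubMulAction (Subgroup.zpowers h) M :=
      { carrier := {x | β v x = β v m}
        smul_mem' := fun g x hx => by
          have hgv : g • v = v := by
            have hle : Subgroup.zpowers h ≤ stabilizer H v := Subgroup.zpowers_le.2 hhv
            exact mem_stabilizer_iff.1 (hle g.2)
          show β v (g • x) = β v m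
          conv_lhs => arg 1; rw [← hgv]
          rw [Subgroup.smul_def, Subgroup.smul_def, hinv]
          exact hx }
    have hX : Nat.card X = 27 := by
      rw [Nat.card_congr (α := X) (β := (β v).ker)
        { toFun := fun x => ⟨x.1 - m, by rw [AddMonoidHom.mem_ker, map_sub, x.2, sub_self]⟩
          invFun := fun k => ⟨k.1 + m, by
            show β v (k.1 + m) = β v m
            rw [map_add, AddMonoidHom.mem_ker.1 k.2, zero_add]⟩
          left_inv := fun x => Subtype.ext (sub_add_cancel _ _)
          right_inv := fun k => Subtype.ext (add_sub_cancel_right _ _) }]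
      have := hker v hv
      omega
    obtain ⟨x, hx⟩ : (fixedPoints (Subgroup.zpowers h) X).Nonempty := by
      refine Set.nonempty_iff_ne_empty.2 fun he => ?_
      have := hP.card_modEq_card_fixedPoints X
      rw [hX, he, Nat.card_coe_set_eq, Set.ncard_empty] at this
      have h27 : r ∣ 3 ^ 3 := Nat.modEq_zero_iff_dvd.1 this
      exact hr3 ((Nat.prime_dvd_prime_iff_eq hr Nat.prime_three).1 (hr.dvd_of_dvd_pow h27))
    have hfx : h • (x : M) = x := congrArg Subtype.val (hx ⟨h, Subgroup.mem_zpowers h⟩)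
    let F : AddSubgroup M :=
      { carrier := {y | h • y = y}
        zero_mem' := smul_zero h
        add_mem' := fun {a b} ha hb => by
          show h • (a + b) = a + b
          rw [smul_add, ha, hb]
        neg_mem' := fun {a} ha => by show h • -a = -a; rw [smul_neg, ha] }
    have hF : (fixedPoints (Subgroup.zpowers h) M) = (F : Set M) := by
      ext y
      refine ⟨fun hy => hy ⟨h, Subgroup.mem_zpowers h⟩, fun hy g => ?_⟩
      have hle : Subgroup.zpowers h ≤ stabilizer H y := Subgroup.zpowers_le.2 hy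
      exact mem_stabilizer_iff.1 (hle g.2)
    have hmod := hP.card_modEq_card_fixedPoints M
    rw [hcard, hF, SetLike.coe_sort_coe] at hmod
    have hlt : AddSubgroup.zmultiples v < F := by
      refine lt_of_le_of_ne (AddSubgroup.zmultiples_le.2 hhv) fun e => ?_
      have hxz : (x : M) ∈ AddSubgroup.zmultiples v := e ▸ hfx
      obtain ⟨z, hz⟩ := AddSubgroup.mem_zmultiples_iff.1 hxz
      have h4 : β v (x : M) = β v m := x.2
      rw [← hz, map_zsmul, halt, smul_zero] at h4
      exact hm h4.symm
    have hcl : 3 < Nat.card F := by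
      have h4 : Nat.card (AddSubgroup.zmultiples v) = 3 := by
        rw [Nat.card_zmultiples, addOrderOf_eq_prime (hexp v) hv]
      refine lt_of_le_of_ne (h4 ▸ AddSubgroup.card_le_of_le hlt.le) fun e => hlt.ne ?_
      exact AddSubgroup.eq_of_le_of_card_ge hlt.le (by omega)
    obtain ⟨i, hi, hi'⟩ := (Nat.dvd_prime_pow Nat.prime_three).1
      (show Nat.card F ∣ 3 ^ 4 from (hcard ▸ AddSubgroup.card_addSubgroup_dvd_card F : Nat.card F ∣ 81))
    rw [hi'] at hmod hcl
    have hd := (Nat.modEq_iff_dvd' (show 3 ^ i ≤ 81 by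
      calc 3 ^ i ≤ 3 ^ 4 := Nat.pow_le_pow_right (by norm_num) hi
        _ = 81 := by norm_num)).1 hmod.symm
    interval_cases i
    · omega
    · omega
    · exact absurd (Nat.le_of_dvd (by norm_num) ((Nat.Coprime.dvd_of_dvd_mul_right
        (show Nat.Coprime r 9 from (Nat.coprime_primes hr Nat.prime_three).2 hr3 |>.pow_right 2)
        (show r ∣ 8 * 9 from hd)))) (by
          intro h8
          have : r ∣ 2 ^ 3 := Nat.Coprime.dvd_of_dvd_mul_right
            (show Nat.Coprime r 9 from (Nat.coprime_primes hr Nat.prime_three).2 hr3 |>.pow_right 2)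
            (show r ∣ 8 * 9 from hd)
          exact hr2 ((Nat.prime_dvd_prime_iff_eq hr Nat.prime_two).1 (hr.dvd_of_dvd_pow this)))
    · have : r ∣ 2 := Nat.Coprime.dvd_of_dvd_mul_right
        (show Nat.Coprime r 27 from (Nat.coprime_primes hr Nat.prime_three).2 hr3 |>.pow_right 3)
        (show r ∣ 2 * 27 from hd)
      exact hr2 ((Nat.prime_dvd_prime_iff_eq hr Nat.prime_two).1 this)
    · have h1 : h = 1 := FaithfulSMul.eq_of_smul_eq_smul fun y : M => by
        rw [one_smul]
        exact ((AddSubgroup.eq_top_of_card_eq F (hi'.trans hcard.symm)).symm ▸ AddSubgroup.mem_top y : y ∈ F)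
      rw [h1, orderOf_one] at hhr
      exact hr.one_lt.ne hhr
  -- Sylow subgroups for other primes
  have hr5 : ∀ r : ℕ, r.Prime → r ≠ 3 → ∀ P : Subgroup H, IsPGroup r P → Nat.card P ∣ 80 := by
    intro r hr hr3 P hP
    have hdvd := card_dvd_of_free (H := P) (M := M) fun v hv g hg => by
      by_contra hg1
      obtain ⟨k, hk⟩ := hP g
      haveI : Fact r.Prime := ⟨hr⟩
      obtain ⟨n, hn, hn'⟩ := (Nat.dvd_prime_pow hr).1 (orderOf_dvd_of_pow_eq_one hk)
      rcases Nat.eq_zero_or_pos n with h0 | h0
      · rw [h0, pow_zero, orderOf_eq_one_iff] at hn'; exact hg1 hn'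
      have ho : orderOf ((g : H) ^ r ^ (n - 1)) = r := by
        rw [orderOf_pow' _ (pow_ne_zero _ hr.pos.ne'), Subgroup.orderOf_coe, hn',
          Nat.gcd_eq_right (pow_dvd_pow r (Nat.sub_le n 1)), Nat.pow_div (Nat.sub_le n 1) hr.pos,
          show n - (n - 1) = 1 by omega, pow_one]
      refine hfree r hr hr3 _ ho v hv ?_
      exact mem_stabilizer_iff.1 (pow_mem (mem_stabilizer_iff.2 hg : (g : H) ∈ stabilizer H v) _)
    rwa [hcard] at hdvd
  obtain ⟨P⟩ : Nonempty (Sylow 5 H) := inferInstance
  have hP5 : Nat.card (P : Subgroup H) ∣ 5 := by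
    obtain ⟨k, hk⟩ := P.2.exists_card_eq
    have h80 := hr5 5 Nat.prime_five (by norm_num) P P.2
    rw [hk] at h80 ⊢
    rcases Nat.lt_or_ge k 2 with h | h
    · interval_cases k <;> norm_num
    · have h25 := (pow_dvd_pow 5 h).trans h80
      norm_num at h25
  have hcentral : Subgroup.normalizer ((P : Subgroup H) : Set H) ≤ Subgroup.centralizer ((P : Subgroup H) : Set H) := by
    intro n hn
    rw [Subgroup.mem_centralizer_iff]
    intro x hx
    haveI : IsCyclic (P : Subgroup H) := by
      rcases (Nat.dvd_prime Nat.prime_five).1 hP5 with h | h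
      · haveI : Subsingleton (P : Subgroup H) := (Nat.card_eq_one_iff_unique.1 h).1
        infer_instance
      · exact isCyclic_of_prime_card h
    let φ := Subgroup.normalizerMonoidHom (P : Subgroup H)
    have h1 : orderOf (φ ⟨n, hn⟩) = 1 := by
      have ha : orderOf (φ ⟨n, hn⟩) ∣ Nat.card H :=
        (orderOf_map_dvd φ _).trans ((orderOf_dvd_natCard _).trans (Subgroup.card_subgroup_dvd_card _))
      have hb : orderOf (φ ⟨n, hn⟩) ∣ 2 ^ 2 := by
        refine (orderOf_dvd_natCard _).trans ?_
        rw [IsCyclic.card_mulAut]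
        rcases (Nat.dvd_prime Nat.prime_five).1 hP5 with h | h <;> rw [h] <;> decide
      obtain ⟨i, -, hi⟩ := (Nat.dvd_prime_pow Nat.prime_two).1 hb
      rcases i.eq_zero_or_pos with rfl | hi0
      · exact hi
      · exact absurd (hH.of_dvd_nat ha) (hi ▸ Nat.not_odd_iff_even.2 ((Nat.even_pow' hi0.ne').2 even_two))
    have h2 := DFunLike.congr_fun (orderOf_eq_one_iff.1 h1) (⟨x, hx⟩ : (P : Subgroup H))
    have h3 : n * x * n⁻¹ = x := congrArg Subtype.val h2
    exact (mul_inv_eq_iff_eq_mul.1 h3).symm
  set K := (MonoidHom.transferSylow P hcentral).ker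
  have hK5 : ¬ 5 ∣ Nat.card K := MonoidHom.not_dvd_card_ker_transferSylow P hcentral
  have hK3 : IsPGroup 3 K := by
    refine IsPGroup.of_card (n := (Nat.card K).factorization 3) ?_
    refine Nat.eq_of_factorization_eq Nat.card_pos.ne' (pow_ne_zero _ (by norm_num)) fun q => ?_
    rw [Nat.Prime.factorization_pow Nat.prime_three]
    by_cases hq : q = 3
    · subst hq; simp
    rw [Finsupp.single_apply, if_neg (Ne.symm hq)]
    by_contra hne
    have hqK := Nat.dvd_of_factorization_pos hne
    have hqp := Nat.prime_of_mem_primeFactors (Nat.support_factorization _ ▸ Finsupp.mem_support_iff.2 hne)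
    haveI : Fact q.Prime := ⟨hqp⟩
    obtain ⟨g, hg⟩ := exists_prime_orderOf_dvd_card' q hqK
    have h80 := hr5 q hqp hq (Subgroup.zpowers (g : H))
      (IsPGroup.of_card (n := 1) (by rw [Nat.card_zpowers, Subgroup.orderOf_coe, hg, pow_one]))
    rw [Nat.card_zpowers, Subgroup.orderOf_coe, hg] at h80
    rcases (Nat.Prime.dvd_mul hqp).1 (show q ∣ 2 ^ 4 * 5 by simpa using h80) with h2 | h2
    · have hq2 := (Nat.prime_dvd_prime_iff_eq hqp Nat.prime_two).1 (hqp.dvd_of_dvd_pow h2)
      obtain ⟨k, hk⟩ := hH.of_dvd_nat (hqK.trans (Subgroup.card_subgroup_dvd_card K))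
      omega
    · exact hK5 ((Nat.prime_dvd_prime_iff_eq hqp Nat.prime_five).1 h2 ▸ hqK)
  have hKchar : K.Characteristic := by
    refine Subgroup.characteristic_iff_comap_le.2 fun φ x hx => ?_
    have hcomp := MonoidHom.ker_transferSylow_isComplement' P hcentral
    obtain ⟨k, hk⟩ := hK3 ⟨φ x, hx⟩
    have hxk : x ^ 3 ^ k = 1 := φ.injective (by
      rw [map_pow, map_one]; exact congrArg Subtype.val hk)
    show (MonoidHom.transferSylow P hcentral) x = 1
    have h4 : (MonoidHom.transferSylow P hcentral x) ^ 3 ^ k = 1 := by rw [← map_pow, hxk, map_one]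
    have h5 := (orderOf_dvd_natCard (MonoidHom.transferSylow P hcentral x)).trans hP5
    refine orderOf_eq_one_iff.1 (Nat.eq_one_of_dvd_coprimes ?_ (orderOf_dvd_of_pow_eq_one h4) h5)
    exact Nat.Coprime.pow_left k (by norm_num)
  have hbot := hO K hKchar hK3
  have hcomp := MonoidHom.ker_transferSylow_isComplement' P hcentral
  have hc := hcomp.card_mul
  rw [show (MonoidHom.transferSylow P hcentral).ker = ⊥ from hbot, Subgroup.card_bot, one_mul] at hc
  rwa [← hc]

end CfsgLib.BaseTwo
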