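import Cfsg.Agent.Lib.FgsC.BaseTwo.Module
import Cfsg.Agent.Lib.FgsC.BaseTwo.Quot
import Cfsg.Agent.Lib.FgsC.BaseTwo.Small
import Cfsg.Agent.Lib.FgsC.BaseTwo.Arith

/-!
# The irreducible case: counting pairs with non-trivial stabiliser
-/

set_option autoImplicit false

universe u

namespace CfsgLib.BaseTwo

open scoped commutatorElement

variable {A : Type u} [Group A] [Finite A] {V : Type u} [AddCommGroup V] [Finite V] [DistribMulAction A V]

/-- The action on a module as a map to the units of its endomorphisms. -/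
abbrev autHom (A : Type u) [Group A] (M : Type u) [AddCommGroup M] [DistribMulAction A M] :
    A →* (AddMonoid.End M)ˣ :=
  (rho : A →* AddMonoid.End M).toHomUnits

/-- A semisimple `p`-group module has exponent `p`. -/
theorem nsmul_prime_eq_zero {p k : ℕ} [Fact p.Prime] {M : Type u} [AddCommGroup M] [Finite M] [DistribMulAction A M]
    (hss : Semisimple A M) (hcard : Nat.card M = p ^ k) (m : M) : p • m = 0 := by
  let f : M →+ M := nsmulAddMonoidHom p
  obtain ⟨W, hW, hi, hj⟩ := hss f.range (by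
    rintro a _ ⟨v, rfl⟩
    exact ⟨a • v, (smul_comm a p v).symm⟩)
  have key : ∀ v : M, ∃ u ∈ f.range, p • v = p • u := fun v => by
    obtain ⟨u, hu, w, hw, rfl⟩ := AddSubgroup.mem_sup.1 (hj ▸ AddSubgroup.mem_top v : v ∈ f.range ⊔ W)
    refine ⟨u, hu, ?_⟩
    have : p • w ∈ f.range ⊓ W := AddSubgroup.mem_inf.2 ⟨⟨w, rfl⟩, W.nsmul_mem hw p⟩
    rw [hi, AddSubgroup.mem_bot] at this
    rw [smul_add, this, add_zero]
  have hstep : ∀ j, ∀ v : M, ∃ u : M, p • v = p ^ (j + 1) • u := by
    intro j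
    induction j with
    | zero => intro v; exact ⟨v, by rw [pow_one]⟩
    | succ j ih =>
      intro v
      obtain ⟨_, ⟨u, rfl⟩, hu⟩ := key v
      obtain ⟨u', hu'⟩ := ih u
      refine ⟨u', ?_⟩
      rw [hu]
      show p • p • u = _
      rw [hu', ← mul_smul, ← pow_succ']
  obtain ⟨u, hu⟩ := hstep k m
  rw [hu, pow_succ', mul_smul, ← hcard, card_nsmul_eq_zero', smul_zero]

/-- In a semisimple `p`-group module a normal `p`-subgroup of the acting image is trivial. -/
theorem pSubgroup_trivial {p k : ℕ} [Fact p.Prime] {M : Type u} [AddCommGroup M] [Finite M] [DistribMulAction A M]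
    (hss : Semisimple A M) (hcard : Nat.card M = p ^ k) (C : Subgroup A) [C.Normal]
    (P : Subgroup (C.map (autHom A M))) (hchar : P.Characteristic) (hP : IsPGroup p P) :
    P = ⊥ := by
  classical
  haveI : Finite (AddMonoid.End M) :=
    Finite.of_injective (fun g : AddMonoid.End M => (g : M → M)) DFunLike.coe_injective
  let cA : A → ((C.map (autHom A M)) ≃* (C.map (autHom A M))) := fun a =>
    { toFun := fun h => ⟨(autHom A M) a * h.1 * ((autHom A M) a)⁻¹, by
        obtain ⟨c, hc, he⟩ := h.2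
        exact ⟨a * c * a⁻¹, ‹C.Normal›.conj_mem c hc a, by rw [map_mul, map_mul, map_inv, he]⟩⟩
      invFun := fun h => ⟨((autHom A M) a)⁻¹ * h.1 * (autHom A M) a, by
        obtain ⟨c, hc, he⟩ := h.2
        exact ⟨a⁻¹ * c * a, by simpa using ‹C.Normal›.conj_mem c hc a⁻¹, by rw [map_mul, map_mul, map_inv, he]⟩⟩
      left_inv := fun h => Subtype.ext (by group)
      right_inv := fun h => Subtype.ext (by group)
      map_mul' := fun h k => Subtype.ext (by
        show (autHom A M) a * (h.1 * k.1) * ((autHom A M) a)⁻¹ = (autHom A M) a * h.1 * ((autHom A M) a)⁻¹ * ((autHom A M) a * k.1 * ((autHom A M) a)⁻¹)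
        group) }
  let U : AddSubgroup M :=
    { carrier := {m | ∀ h : (C.map (autHom A M)), h ∈ P → h • m = m}
      zero_mem' := fun h _ => smul_zero h
      add_mem' := fun {x y} hx hy h hh => by rw [smul_add, hx h hh, hy h hh]
      neg_mem' := fun {x} hx h hh => by rw [smul_neg, hx h hh] }
  have hU : ∀ a : A, ∀ v ∈ U, a • v ∈ U := by
    intro a v hv h hh
    have hmem : (cA a).symm h ∈ P := by
      have := Subgroup.characteristic_iff_map_eq.1 hchar (cA a).symm
      rw [← this]
      exact ⟨h, hh, rfl⟩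
    have h1 : a⁻¹ • h • a • v = v := hv _ hmem
    rw [inv_smul_eq_iff] at h1
    exact h1
  obtain ⟨W, hW, hUW, hUW'⟩ := hss U hU
  have hWbot : W = ⊥ := by
    by_contra hne
    obtain ⟨w, hw, hw0⟩ := (AddSubgroup.bot_or_exists_ne_zero W).resolve_left hne
    have hHW : ∀ (h : (C.map (autHom A M))), ∀ x ∈ W, h • x ∈ W := by
      rintro ⟨_, c, -, rfl⟩ x hx
      exact hW c x hx
    letI : DistribMulAction (C.map (autHom A M)) W :=
      { smul := fun h x => ⟨h • (x : M), hHW h x x.2⟩
        one_smul := fun x => Subtype.ext (one_smul (C.map (autHom A M)) (x : M))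
        mul_smul := fun g h x => Subtype.ext (mul_smul g h (x : M))
        smul_zero := fun h => Subtype.ext (smul_zero h)
        smul_add := fun h x y => Subtype.ext (smul_add h (x : M) y) }
    haveI : Nontrivial W := ⟨⟨⟨w, hw⟩, 0, fun h => hw0 (congrArg Subtype.val h)⟩⟩
    have hdvd : p ∣ Nat.card W := by
      obtain ⟨i, -, hi⟩ := (Nat.dvd_prime_pow (Fact.out : p.Prime)).1 (hcard ▸ AddSubgroup.card_addSubgroup_dvd_card W)
      have h1 : 1 < Nat.card W := Finite.one_lt_card
      rw [hi] at h1 ⊢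
      exact dvd_pow_self p fun h0 => by rw [h0, pow_zero] at h1; exact lt_irrefl 1 h1
    obtain ⟨v, hv, hvfix⟩ := exists_fixed_ne_zero hdvd hP
    have : (v : M) ∈ U ⊓ W := AddSubgroup.mem_inf.2 ⟨fun h hh => congrArg Subtype.val (hvfix h hh), v.2⟩
    rw [hUW, AddSubgroup.mem_bot] at this
    exact hv (Subtype.ext this)
  rw [hWbot, sup_bot_eq] at hUW'
  refine (Subgroup.eq_bot_iff_forall P).2 fun h hh => Subtype.ext (Units.ext (DFunLike.ext _ _ fun m => ?_))
  exact (hUW'.symm ▸ AddSubgroup.mem_top m : m ∈ U) h hh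

/-- The irreducible case. -/
theorem hasPair_irred [FaithfulSMul A V] [Nontrivial V] (hA : Odd (Nat.card A)) (hss : Semisimple A V)
    (hbelow : Below.{u} (Nat.card V)) (hirr : Irred A V) : HasPair A V := by
  classical
  obtain ⟨S⟩ := exists_sect A (CfsgLib.FT.isSolvable_of_odd hA)
  rcases field_or_hasPair hA hss hbelow hirr (ring (V := V) S) (fun x hx y hy => ring_comm S hx hy)
      (fun a x hx => ring_normalized S a hx) with hfld | hpair
  swap
  · exact hpair
  haveI : Finite (AddMonoid.End V) :=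
    Finite.of_injective (fun f : AddMonoid.End V => (f : V → V)) DFunLike.coe_injective
  have hfield := isField_ring S hfld
  letI : Field (ring (V := V) S) := hfield.toField
  haveI : Module.Finite (ring (V := V) S) V := Module.Finite.of_finite
  set n := Module.finrank (ring (V := V) S) V with hn
  have hq : Nat.card V = Nat.card (ring (V := V) S) ^ n := Module.natCard_eq_pow_finrank
  let χ : S.A →* (ring (V := V) S) :=
    { toFun := fun a => ⟨rho (a : A), rho_mem S a.2⟩
      map_one' := Subtype.ext (map_one (rho : A →* AddMonoid.End V))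
      map_mul' := fun a b => Subtype.ext (map_mul (rho : A →* AddMonoid.End V) (a : A) b) }
  have hχ : Function.Injective χ := fun a b h => Subtype.ext (rho_injective (congrArg Subtype.val h))
  obtain ⟨W, hAW, hWN, hWc, hperp, hsq⟩ := S.exists_sqrt χ hχ
  set e := S.A.relIndex W with he
  have hepos : 0 < e := Sect.relIndex_pos _ _
  have hfixA : ∀ a ∈ S.A, a ≠ 1 → ∀ v : V, a • v = v → v = 0 := fun a ha ha1 v hv => fix_A S hfld ha ha1 hv
  by_cases he1 : e = 1
  · -- the semilinear case
    rw [he1, one_pow, Subgroup.relIndex_eq_one] at hsq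
    have hCA : S.C ≤ S.A := by
      intro c hc
      refine hsq ?_
      rw [← S.C_inf_K χ hχ]
      exact Subgroup.mem_inf.2 ⟨hc, fun x hx => by
        rw [commutatorElement_eq_one_iff_mul_comm.2 (S.comm_A (hsq hx) hc).symm]
        exact S.A.one_mem⟩
    haveI : IsCyclic S.A := isCyclic_of_subgroup_isDomain χ hχ
    obtain ⟨b, hb⟩ := IsCyclic.exists_generator (α := S.A)
    obtain ⟨x, hx⟩ := exists_ne (0 : V)
    refine ⟨x, (b : A) • x, fun a h1 h2 v => ?_⟩
    have hab : a * (b : A) * a⁻¹ = b := by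
      by_contra hne
      refine hx (hfixA ((b : A)⁻¹ * (a * b * a⁻¹)) (S.A.mul_mem (S.A.inv_mem b.2) (S.hA.conj_mem b b.2 a)) ?_ x ?_)
      · intro h; exact hne (inv_mul_eq_one.1 h).symm
      · rw [mul_smul, mul_smul, mul_smul, inv_smul_eq_iff.2 h1.symm, h2, inv_smul_smul]
    have haC : a ∈ S.C := Subgroup.mem_centralizer_iff.2 fun c hc => by
      have hcz : (⟨c, hc⟩ : S.A) ∈ Subgroup.zpowers b := hb _
      obtain ⟨i, hi⟩ := Subgroup.mem_zpowers_iff.1 hcz
      have hci : c = (b : A) ^ i := by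
        rw [← Subgroup.coe_zpow, hi]
      rw [hci]
      exact ((Commute.zpow_right (show Commute a (b : A) from mul_inv_eq_iff_eq_mul.1 hab) i).symm)
    by_cases ha1 : a = 1
    · rw [ha1, one_smul]
    · exact absurd (hfixA a (hCA haC) ha1 x h1) hx
  set d := Nat.card (Additive S.Q) with hd
  have hdQ : d = e ^ 2 := hsq
  have hoddSub : ∀ (P T : Subgroup A), P ≤ T → Odd (P.relIndex T) := fun P T hle =>
    hA.of_dvd_nat (((Subgroup.relIndex_dvd_index_of_le hle)).trans P.index_dvd_card)
  have heodd : Odd e := hoddSub _ _ hAW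
  have he3 : 3 ≤ e := by
    obtain ⟨k, hk⟩ := heodd
    omega
  set q := Nat.card (ring (V := V) S) with hqdef
  set a := Nat.card S.A with hadef
  have hadvd : a ∣ q - 1 := by
    have hχu : Function.Injective χ.toHomUnits := fun x y h => hχ (congrArg Units.val h)
    rw [← Nat.card_units (ring (V := V) S)]
    exact Subgroup.card_dvd_of_injective χ.toHomUnits hχu
  have hq1 : 1 < q := Finite.one_lt_card
  have hapos : 0 < a := Nat.card_pos
  have haq : a < q := by
    have := Nat.le_of_dvd (by omega) hadvd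
    omega
  have hen : e ≤ n := by
    have := card_sect_le S hfld
    rw [hsq] at this
    exact (Nat.pow_le_pow_iff_left two_ne_zero).1 this
  have hpa : ∀ p : ℕ, p.Prime → p ∣ e → p ∣ a := by
    intro p hp hpe
    haveI : Fact p.Prime := ⟨hp⟩
    obtain ⟨c, hc⟩ := exists_prime_orderOf_dvd_card' (G := W ⧸ S.A.subgroupOf W) p hpe
    obtain ⟨x, rfl⟩ := QuotientGroup.mk_surjective c
    have hxA : (x : A) ∉ S.A := fun h => by
      rw [(QuotientGroup.eq_one_iff x).2 (Subgroup.mem_subgroupOf.2 h), orderOf_one] at hc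
      exact hp.one_lt.ne hc
    have hxp : (x : A) ^ p ∈ S.A := by
      have := pow_orderOf_eq_one (x : W ⧸ S.A.subgroupOf W)
      rw [hc, ← QuotientGroup.mk_pow, QuotientGroup.eq_one_iff, Subgroup.mem_subgroupOf, Subgroup.coe_pow] at this
      exact this
    obtain ⟨y, hy, hne⟩ := S.exists_comm_ne (S.hNC (hWN x.2)) hxA
    set X : S.N := ⟨x, hWN x.2⟩
    set Y : S.N := ⟨y, hy⟩
    have hpow : ∀ i : ℕ, S.comA (X ^ i) Y = S.comA X Y ^ i := fun i => by
      induction i with
      | zero => rw [pow_zero, pow_zero]; exact Subtype.ext (commutatorElement_one_left y)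
      | succ i ih => rw [pow_succ, S.comA_mul_left, ih, pow_succ]
    have h1 : orderOf (S.comA X Y) = p := by
      refine orderOf_eq_prime ?_ fun h => hne (congrArg Subtype.val h)
      rw [← hpow, S.comA_swap, S.comA_of_mem_A Y (by rw [Subgroup.coe_pow]; exact hxp), inv_one]
    exact h1 ▸ orderOf_dvd_natCard _
  have hq4 : 4 ≤ q := by
    obtain ⟨p, hp, hpe⟩ := Nat.exists_prime_and_dvd (show e ≠ 1 from he1)
    have h1 := Nat.le_of_dvd hapos (hpa p hp hpe)
    have h2 : p ≠ 2 := fun h => by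
      obtain ⟨k, hk⟩ := heodd.of_dvd_nat hpe
      omega
    have := hp.two_le
    omega
  have hdlt : d < Nat.card V := by
    rw [hdQ, hq]
    refine lt_of_lt_of_le ?_ (Nat.pow_le_pow_right (by omega) hen)
    have h1 := sq_le_four_mul e he3
    calc e ^ 2 ≤ 4 * 3 ^ (e - 2) := h1
      _ ≤ 4 * 4 ^ (e - 2) := Nat.mul_le_mul_left _ (Nat.pow_le_pow_left (by norm_num) _)
      _ < 4 ^ e := by
          rw [← pow_succ' 4]
          exact Nat.pow_lt_pow_right (by norm_num) (by omega)
      _ ≤ q ^ e := Nat.pow_le_pow_left hq4 _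
  have hdodd : Odd d := by rw [hdQ]; exact heodd.pow
  have hssQ := S.semisimpleQ χ hχ
  obtain ⟨v₀, w₀, hvw⟩ := (hbelow d hdlt).1 A hA (Additive S.Q) le_rfl hssQ
  -- the image of the centraliser
  set f := autHom A (Additive S.Q) with hf
  haveI : Finite (AddMonoid.End (Additive S.Q)) :=
    Finite.of_injective (fun g : AddMonoid.End (Additive S.Q) => (g : Additive S.Q → Additive S.Q)) DFunLike.coe_injective
  set H := S.C.map f with hH
  haveI : FaithfulSMul H (Additive S.Q) := ⟨fun {x y} h => Subtype.ext (Units.ext (DFunLike.ext _ _ h))⟩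
  have hHodd : Odd (Nat.card H) := hA.of_dvd_nat ((Subgroup.card_map_dvd S.C f).trans (Subgroup.card_subgroup_dvd_card S.C))
  have hinv : ∀ (h : H) m k, S.beta (h • m) (h • k) = S.beta m k := by
    rintro ⟨_, c, hc, rfl⟩ m k
    exact S.beta_smul hc m k
  have hker : f.ker = S.K := by
    ext g
    rw [MonoidHom.mem_ker, ← S.fixed_iff]
    exact ⟨fun h m => DFunLike.congr_fun (congrArg Units.val h) m, fun h => Units.ext (DFunLike.ext _ _ h)⟩
  set s := Nat.card H with hs
  have hsC : s = S.N.relIndex S.C := by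
    have h1 : Nat.card (f.domRestrict S.C).range = (f.domRestrict S.C).ker.index := (Subgroup.index_ker _).symm
    rw [MonoidHom.domRestrict_range, MonoidHom.ker_domRestrict, hker] at h1
    rw [hs, hH, h1, ← S.C_inf_K χ hχ, Subgroup.inf_relIndex_left]
    rfl
  have hCcard : Nat.card S.C = a * e ^ 2 * s := by
    rw [hsC, ← hsq, hadef, ← Subgroup.relIndex_bot_left S.A, Subgroup.relIndex_mul_relIndex _ _ _ bot_le S.hAN,
      Subgroup.relIndex_mul_relIndex _ _ _ bot_le S.hNC, Subgroup.relIndex_bot_left]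
  have hNcard : Nat.card S.N = a * e ^ 2 := by
    rw [← hsq, hadef, ← Subgroup.relIndex_bot_left S.A, Subgroup.relIndex_mul_relIndex _ _ _ bot_le S.hAN,
      Subgroup.relIndex_bot_left]
  have hgen : 6 * s ≤ e ^ 2 * (e ^ 2 - 1) := by
    rw [← hdQ]
    refine six_mul_card_le S.beta hHodd hdodd ?_ (fun m hm => S.beta_nondegenerate hm) hinv
      ⟨v₀, w₀, fun h h1 h2 => ?_⟩
    · show 7 ≤ d
      rw [hdQ]; nlinarith
    obtain ⟨_, c, hc, rfl⟩ := h
    exact Subtype.ext (Units.ext (DFunLike.ext _ _ fun m => hvw c h1 h2 m))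
  have hprime : e.Prime → s ∣ e ^ 2 - 1 := fun hp => by
    haveI : Fact e.Prime := ⟨hp⟩
    haveI : Fact (e.Prime) := ⟨hp⟩
    exact card_dvd_plane S.beta hHodd hdodd hdQ (nsmul_prime_eq_zero hssQ hdQ) S.beta_self
      (fun m hm => S.beta_nondegenerate hm) hinv (fun P hP1 hP2 => pSubgroup_trivial hssQ hdQ S.C P hP1 hP2)
  have hnine : e = 9 → s ∣ 5 := fun h9 => by
    haveI : Fact (Nat.Prime 3) := ⟨Nat.prime_three⟩
    have h81 : d = 81 := by rw [hdQ, h9]; norm_num
    have h81' : Nat.card (Additive S.Q) = 3 ^ 4 := h81.trans (by norm_num)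
    have hexp := nsmul_prime_eq_zero (p := 3) hssQ h81'
    refine card_dvd_five S.beta h81 hHodd hexp S.beta_self (fun v hv => ?_) hinv
      (fun P hP1 hP2 => pSubgroup_trivial hssQ h81' S.C P hP1 hP2)
    have hcy : IsCyclic S.A := isCyclic_of_subgroup_isDomain χ hχ
    have hne : (S.beta v).ker ≠ ⊤ := fun h => hv (S.beta_nondegenerate fun k =>
      (h.symm ▸ AddSubgroup.mem_top k : k ∈ (S.beta v).ker))
    have hr : Nat.card (S.beta v).range ≤ 3 := by
      haveI := Fintype.ofFinite S.A
      refine le_trans ?_ (IsCyclic.card_pow_eq_one_le (α := S.A) (n := 3) (by norm_num))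
      rw [← Nat.subtype_card _ (fun x => Finset.mem_filter.trans (and_iff_right (Finset.mem_univ x)))]
      refine Nat.card_le_card_of_injective (fun y => (⟨y.1.toMul, ?_⟩ : {x : S.A // x ^ 3 = 1}))
        fun y z h => Subtype.ext (Additive.toMul.injective (congrArg (fun w : {x : S.A // x ^ 3 = 1} => (w : S.A)) h))
      obtain ⟨k, hk⟩ := y.2
      rw [← hk, ← toMul_nsmul, ← map_nsmul, hexp k, map_zero]
      rfl
    have h1 := AddSubgroup.card_mul_index (S.beta v).ker
    rw [AddSubgroup.index_ker] at h1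
    have h2 : Nat.card (S.beta v).range ≠ 1 := fun h => hne (AddSubgroup.index_eq_one.1 (by rw [AddSubgroup.index_ker]; exact h))
    have h3 : Nat.card (S.beta v).range ≠ 2 := fun h => by
      rw [h, show Nat.card (Additive S.Q) = 81 from h81] at h1
      omega
    have h4 : 0 < Nat.card (S.beta v).range := Nat.card_pos
    rw [show Nat.card (Additive S.Q) = 81 from h81, show Nat.card (S.beta v).range = 3 by omega] at h1
    omega
  have hspos : 0 < s := Nat.card_pos
  have hfle := two_pow_index_le S hfield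
  have hfpos : 0 < S.C.index := Nat.pos_of_ne_zero Subgroup.index_ne_zero_of_finite
  set r := if e = 9 then 5 else 3 with hr
  have hpp : IsPrimePow q := by
    letI := Fintype.ofFinite (ring (V := V) S)
    rw [hqdef, Nat.card_eq_fintype_card]
    exact FiniteField.isPrimePow_card (ring (V := V) S)
  have hcrit := criterion hapos haq hfle hfpos he3 heodd hen hspos hHodd hpp hadvd hpa hprime hnine hgen r rfl
  rw [← hq] at hcrit
  set Vc := Nat.card V with hVc
  set T := Nat.sqrt (Vc ^ 3)
  have hGcard : Nat.card A = a * S.C.index * e ^ 2 * s := by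
    rw [← S.C.card_mul_index, hCcard]; ring
  -- fixed spaces
  have hsqA : ∀ h ∈ S.A, h ≠ 1 → Nat.card (fixA (V := V) h) = 1 := fun h hh hh1 => by
    haveI : Subsingleton (fixA (V := V) h) :=
      ⟨fun x y => Subtype.ext ((hfixA h hh hh1 x x.2).trans (hfixA h hh hh1 y y.2).symm)⟩
    exact Nat.card_of_subsingleton 0
  have hhalf : ∀ g x : A, ⁅g, x⁆ ∈ S.A → ⁅g, x⁆ ≠ 1 → Nat.card (fixA (V := V) g) ^ 2 ≤ Vc := fun g x h1 h2 => by
    have := fix_sq_le (V := V) g x
    rwa [hsqA _ h1 h2, mul_one] at this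
  have hN : ∀ g ∈ S.N, g ≠ 1 → Nat.card (fixA (V := V) g) ^ 2 ≤ Vc := fun g hg hg1 => by
    by_cases hgA : g ∈ S.A
    · rw [hsqA g hgA hg1, one_pow]; exact Nat.card_pos
    · obtain ⟨x, hx, hne⟩ := S.exists_comm_ne (S.hNC hg) hgA
      exact hhalf g x (S.hNN g hg x hx) hne
  have houter : ∀ g, g ∉ S.C → Nat.card (fixA (V := V) g) ^ 2 ≤ Vc := fun g hg => by
    rw [Subgroup.mem_centralizer_iff] at hg
    push Not at hg
    obtain ⟨x, hx, hne⟩ := hg
    refine hhalf g x ?_ fun h => hne (commutatorElement_eq_one_iff_mul_comm.1 h).symm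
    rw [commutatorElement_def]
    exact S.A.mul_mem (S.hA.conj_mem x hx g) (S.A.inv_mem hx)
  have hmid : ∀ g ∈ S.C, g ∉ S.N → Nat.card (fixA (V := V) g) ^ 2 ≤ T := fun g hg hgN => by
    have hgK : g ∉ S.K := fun h => hgN (S.C_inf_K χ hχ ▸ Subgroup.mem_inf.2 ⟨hg, h⟩)
    obtain ⟨x, hx, hxne⟩ : ∃ x ∈ S.N, ⁅g, x⁆ ∉ S.A := by
      by_contra hall
      push Not at hall
      exact hgK hall
    have hhN : ⁅g, x⁆ ∈ S.N := by
      rw [commutatorElement_def]
      exact S.N.mul_mem (S.hN.conj_mem x hx g) (S.N.inv_mem hx)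
    have h1 := fix_sq_le (V := V) g x
    have h2 := hN _ hhN fun h => hxne (h ▸ S.A.one_mem)
    rw [Nat.le_sqrt]
    calc Nat.card (fixA (V := V) g) ^ 2 * Nat.card (fixA (V := V) g) ^ 2
        ≤ (Vc * Nat.card (fixA (V := V) ⁅g, x⁆)) * (Vc * Nat.card (fixA (V := V) ⁅g, x⁆)) := Nat.mul_le_mul h1 h1
      _ = Vc ^ 2 * Nat.card (fixA (V := V) ⁅g, x⁆) ^ 2 := by ring
      _ ≤ Vc ^ 2 * Vc := Nat.mul_le_mul_left _ h2
      _ = Vc ^ 3 := by ring
  -- counting
  by_contra hno
  simp only [HasPair] at hno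
  push Not at hno
  have hbad : ∀ x : V × V, ∃ g : A, g ≠ 1 ∧ g • x = x := fun x => by
    obtain ⟨g, h1, h2, y, hy⟩ := hno x.1 x.2
    exact ⟨g, fun h => hy (by rw [h, one_smul]), Prod.ext h1 h2⟩
  letI := Fintype.ofFinite A
  letI := Fintype.ofFinite V
  let mid : A → Prop := fun g => g ∈ S.C ∧ g ∉ S.N
  let wt : A → ℕ := fun g => if mid g then 2 else r - 1
  let G1 : Finset A := Finset.univ.erase 1
  let P : Finset (V × V) := Finset.univ.erase 0
  have hlow : ∀ x ∈ P, 2 * (r - 1) ≤ ∑ g ∈ G1.filter (fun g => g • x = x), wt g := by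
    intro x _
    have hr35 : r = 3 ∨ (r = 5 ∧ e = 9) := by
      by_cases h9 : e = 9
      · exact Or.inr ⟨by rw [hr, if_pos h9], h9⟩
      · exact Or.inl (by rw [hr, if_neg h9])
    by_cases hm : ∃ g : A, g • x = x ∧ mid g
    · obtain ⟨g, hgx, hgC, hgN⟩ := hm
      have hord : ∀ i : ℕ, g ^ i ∈ S.N ↔ orderOf (f g) ∣ i := fun i => by
        rw [orderOf_dvd_iff_pow_eq_one, ← map_pow, ← MonoidHom.mem_ker, hker]
        exact ⟨fun h => S.N_le_K h, fun h => S.C_inf_K χ hχ ▸ Subgroup.mem_inf.2 ⟨S.C.pow_mem hgC i, h⟩⟩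
      have hdvd : orderOf (f g) ∣ s := by
        have := orderOf_dvd_natCard (⟨f g, g, hgC, rfl⟩ : H)
        rwa [← Subgroup.orderOf_coe] at this
      have hne1 : orderOf (f g) ≠ 1 := fun h => hgN (by
        have := (hord 1).2 (h ▸ dvd_rfl)
        rwa [pow_one] at this)
      have hro : r ≤ orderOf (f g) := by
        have hodd := hHodd.of_dvd_nat hdvd
        obtain ⟨k, hk⟩ := hodd
        rcases hr35 with h | ⟨h, h9⟩
        · omega
        · rcases (Nat.dvd_prime Nat.prime_five).1 (hdvd.trans (hnine h9)) with h' | h'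
          · exact absurd h' hne1
          · omega
      have hog : orderOf (f g) ≤ orderOf g := Nat.le_of_dvd (orderOf_pos g) (orderOf_map_dvd f g)
      have hsub : (Finset.Ico 1 r).image (fun i => g ^ i) ⊆ G1.filter (fun h => h • x = x) := by
        intro h hh
        obtain ⟨i, hi, rfl⟩ := Finset.mem_image.1 hh
        rw [Finset.mem_Ico] at hi
        refine Finset.mem_filter.2 ⟨Finset.mem_erase.2 ⟨?_, Finset.mem_univ _⟩, ?_⟩
        · intro h1
          have := Nat.le_of_dvd (by omega) ((hord i).1 (h1 ▸ S.N.one_mem))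
          omega
        · exact MulAction.mem_stabilizer_iff.1 (pow_mem (MulAction.mem_stabilizer_iff.2 hgx) i)
      refine le_trans ?_ (Finset.sum_le_sum_of_subset hsub)
      rw [Finset.sum_image (fun i hi j hj hij => pow_injOn_Iio_orderOf
        (by simp only [Finset.coe_Ico, Set.mem_Ico, Set.mem_Iio] at hi ⊢; omega)
        (by simp only [Finset.coe_Ico, Set.mem_Ico, Set.mem_Iio] at hj ⊢; omega) hij)]
      have : ∀ i ∈ Finset.Ico 1 r, wt (g ^ i) = 2 := fun i hi => by
        rw [Finset.mem_Ico] at hi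
        refine if_pos ⟨S.C.pow_mem hgC i, fun h => ?_⟩
        have := Nat.le_of_dvd (by omega) ((hord i).1 h)
        omega
      rw [Finset.sum_congr rfl this, Finset.sum_const, Nat.card_Ico, smul_eq_mul, mul_comm]
    · push Not at hm
      obtain ⟨g, hg1, hgx⟩ := hbad x
      have hg2 : g * g ≠ 1 := fun h => hg1 (by
        have h3 : orderOf g ∣ 2 := orderOf_dvd_of_pow_eq_one (by rw [pow_two, h])
        obtain ⟨k, hk⟩ := hA.of_dvd_nat (orderOf_dvd_natCard g)
        have := Nat.le_of_dvd two_pos h3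
        exact orderOf_eq_one_iff.1 (by omega))
      have hgg : g ≠ g * g := fun h => hg1 (left_eq_mul.1 h)
      have hsub : ({g, g * g} : Finset A) ⊆ G1.filter (fun h => h • x = x) := by
        intro h hh
        rcases Finset.mem_insert.1 hh with rfl | hh
        · exact Finset.mem_filter.2 ⟨Finset.mem_erase.2 ⟨hg1, Finset.mem_univ _⟩, hgx⟩
        · rw [Finset.mem_singleton.1 hh]
          exact Finset.mem_filter.2 ⟨Finset.mem_erase.2 ⟨hg2, Finset.mem_univ _⟩, by rw [mul_smul, hgx, hgx]⟩
      refine le_trans ?_ (Finset.sum_le_sum_of_subset hsub)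
      rw [Finset.sum_pair hgg]
      simp only [wt, if_neg (hm g hgx |> fun h => fun hh => h hh),
        if_neg (fun hh => hm (g * g) (by rw [mul_smul, hgx, hgx]) hh)]
      omega
  have hup : ∀ g ∈ G1, wt g * (P.filter (fun x => g • x = x)).card ≤ if mid g then 2 * T else (r - 1) * Vc := by
    intro g hg
    have hcard : (P.filter (fun x => g • x = x)).card ≤ Nat.card (fixA (V := V) g) ^ 2 := by
      rw [pow_two, ← Nat.card_prod, ← Nat.card_eq_finsetCard]
      refine Nat.card_le_card_of_injective (fun x =>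
        ((⟨x.1.1, congrArg Prod.fst (Finset.mem_filter.1 x.2).2⟩ : fixA (V := V) g),
          (⟨x.1.2, congrArg Prod.snd (Finset.mem_filter.1 x.2).2⟩ : fixA (V := V) g))) fun x y h => ?_
      simp only [Prod.mk.injEq, Subtype.mk.injEq] at h
      exact Subtype.ext (Prod.ext (congrArg Subtype.val h.1) (congrArg Subtype.val h.2))
    have hg1 : g ≠ 1 := (Finset.mem_erase.1 hg).1
    by_cases hmg : mid g
    · simp only [wt, if_pos hmg]
      exact Nat.mul_le_mul_left _ (hcard.trans (hmid g hmg.1 hmg.2))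
    · simp only [wt, if_neg hmg]
      refine Nat.mul_le_mul_left _ (hcard.trans ?_)
      by_cases hgC : g ∈ S.C
      · exact hN g (not_not.1 fun h => hmg ⟨hgC, h⟩) hg1
      · exact houter g hgC
  have hmidcard : (G1.filter mid).card = a * e ^ 2 * (s - 1) := by
    have h1 : G1.filter mid = (S.C : Set A).toFinset \ (S.N : Set A).toFinset := by
      ext g
      simp only [G1, mid, Finset.mem_filter, Finset.mem_erase, Finset.mem_univ, and_true, Finset.mem_sdiff,
        Set.mem_toFinset, SetLike.mem_coe]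
      exact ⟨fun h => h.2, fun h => ⟨fun e1 => h.2 (e1 ▸ S.N.one_mem), h⟩⟩
    rw [h1, Finset.card_sdiff_of_subset (Set.toFinset_mono S.hNC), ← Nat.card_eq_card_toFinset,
      ← Nat.card_eq_card_toFinset, Nat.mul_sub_one, ← hCcard, ← hNcard]
    rfl
  have hmain : P.card * (2 * (r - 1)) ≤ (G1.filter mid).card * (2 * T) + G1.card * ((r - 1) * Vc) := by
    calc P.card * (2 * (r - 1)) ≤ ∑ x ∈ P, ∑ g ∈ G1.filter (fun g => g • x = x), wt g := by
          rw [← smul_eq_mul, ← Finset.sum_const]
          exact Finset.sum_le_sum hlow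
      _ = ∑ g ∈ G1, wt g * (P.filter (fun x => g • x = x)).card := by
          simp only [Finset.sum_filter]
          rw [Finset.sum_comm]
          refine Finset.sum_congr rfl fun g _ => ?_
          rw [← Finset.sum_filter, Finset.sum_const, smul_eq_mul, mul_comm]
      _ ≤ ∑ g ∈ G1, if mid g then 2 * T else (r - 1) * Vc := Finset.sum_le_sum hup
      _ ≤ _ := by
          rw [Finset.sum_ite, Finset.sum_const, Finset.sum_const, smul_eq_mul, smul_eq_mul]
          exact Nat.add_le_add_left (Nat.mul_le_mul_right _ (Finset.card_filter_le _ _)) _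
  have hG1 : G1.card + 1 = a * S.C.index * e ^ 2 * s := by
    rw [← hGcard, Nat.card_eq_fintype_card, Finset.card_erase_of_mem (Finset.mem_univ _), Finset.card_univ]
    have := Fintype.card_pos (α := A)
    omega
  have hPc : P.card + 1 = Vc ^ 2 := by
    rw [hVc, Finset.card_erase_of_mem (Finset.mem_univ _), Finset.card_univ, Fintype.card_prod, Nat.card_eq_fintype_card,
      pow_two]
    have := Nat.mul_pos (Fintype.card_pos (α := V)) (Fintype.card_pos (α := V))
    omega
  have hVc2 : 2 ≤ Vc := Finite.one_lt_card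
  have h1 : 2 * (r - 1) ≤ (r - 1) * Vc := by rw [mul_comm 2]; exact Nat.mul_le_mul_left _ hVc2
  have h2 : P.card * (2 * (r - 1)) + 2 * (r - 1) = 2 * (r - 1) * Vc ^ 2 := by
    rw [← hPc]; ring
  have h3 : G1.card * ((r - 1) * Vc) + (r - 1) * Vc = (r - 1) * (a * S.C.index * e ^ 2 * s) * Vc := by
    rw [← hG1]; ring
  have h4 : (G1.filter mid).card * (2 * T) = 2 * (a * e ^ 2 * (s - 1)) * T := by
    rw [hmidcard]; ring
  omega

end CfsgLib.BaseTwo
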