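import Cfsg.Agent.Lib.FgsC.BaseTwo.Sets
import Cfsg.Agent.Lib.FgsC.BaseTwo.Primitive

/-!
# Groups of odd order have base two on completely reducible modules
-/

set_option autoImplicit false

universe u v w

namespace CfsgLib.BaseTwo

/-- The image of the action, and the transfer of a regular pair. -/
theorem hasPair_of_range {A : Type u} [Group A] {V : Type v} [AddCommGroup V] [DistribMulAction A V]
    (G : Subgroup (AddMonoid.End V)ˣ) (f : A → G) (hf : ∀ (a : A) (v : V), f a • v = a • v) (h : HasPair G V) :
    HasPair A V := by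
  obtain ⟨v, w, hvw⟩ := h
  exact ⟨v, w, fun a h1 h2 x => (hf a x).symm.trans
    (hvw (f a) ((hf a v).trans h1) ((hf a w).trans h2) x)⟩

theorem upTo (N : ℕ) : LinearUpTo.{u} N ∧ SetUpTo.{u} N := by
  classical
  induction N using Nat.strong_induction_on with
  | _ N ih =>
    have hlin : LinearUpTo.{u} N := by
      intro A _ _ hA V _ _ _ hV hss
      rcases subsingleton_or_nontrivial V with hsub | hnt
      · exact ⟨0, 0, fun a _ _ x => Subsingleton.elim _ _⟩
      let φ : A →* (AddMonoid.End V)ˣ := (rho : A →* AddMonoid.End V).toHomUnits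
      haveI : Finite (AddMonoid.End V) :=
        Finite.of_injective (fun g : AddMonoid.End V => (g : V → V)) DFunLike.coe_injective
      refine hasPair_of_range φ.range φ.rangeRestrict (fun _ _ => rfl) ?_
      have hG : Odd (Nat.card φ.range) := hA.of_dvd_nat (Subgroup.card_range_dvd φ)
      haveI : FaithfulSMul φ.range V := ⟨fun {x y} h => Subtype.ext (Units.ext (DFunLike.ext _ _ h))⟩
      have hssG : Semisimple φ.range V := fun U hU => by
        obtain ⟨W, hW, h1, h2⟩ := hss U fun a v hv => hU ⟨φ a, a, rfl⟩ v hv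
        refine ⟨W, ?_, h1, h2⟩
        rintro ⟨_, a, rfl⟩ x hx
        exact hW a x hx
      have hbelow : Below.{u} (Nat.card V) := fun K hK => ih K (hK.trans_le hV)
      by_cases hirr : Irred φ.range V
      · exact hasPair_irred hG hssG hbelow hirr
      · exact hasPair_reducible hG hssG hbelow hirr
    exact ⟨hlin, set_step hlin fun K hK => (ih K hK).2⟩

/-- A group of odd order acting completely reducibly has a regular pair. -/
theorem exists_pair {A : Type u} [Group A] [Finite A] (hA : Odd (Nat.card A)) {V : Type v} [AddCommGroup V]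
    [Finite V] [DistribMulAction A V] (hss : Semisimple A V) : HasPair A V := by
  let φ : A →* (AddMonoid.End V)ˣ := (DistribMulAction.toAddMonoidEnd A V).toHomUnits
  haveI : Finite (AddMonoid.End V) :=
    Finite.of_injective (fun g : AddMonoid.End V => (g : V → V)) DFunLike.coe_injective
  refine hasPair_of_range φ.range φ.rangeRestrict (fun _ _ => rfl) ?_
  refine (upTo.{v} (Nat.card V)).1 φ.range (hA.of_dvd_nat (Subgroup.card_range_dvd φ)) V le_rfl fun U hU => ?_
  obtain ⟨W, hW, h1, h2⟩ := hss U fun a x hx => hU ⟨φ a, a, rfl⟩ x hx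
  refine ⟨W, ?_, h1, h2⟩
  rintro ⟨_, a, rfl⟩ x hx
  exact hW a x hx

end CfsgLib.BaseTwo
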